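import Groth.Agent.ModPair.K971.MProd
import Groth.Agent.Flat2C.BlowProper

/-!
# Ambient products of modulus pairs
-/

set_option autoImplicit false
universe u

open CategoryTheory CategoryTheory.Limits AlgebraicGeometry TopologicalSpace

namespace K972.AmbProd

open ModPair K971.Basic K971.MProd Groth.Agent.Divis.EffCartier Groth.Agent.Divis.IdealComap
  Groth.Agent.Divis.BlowUpFormal

variable {X Y Z S T P : Scheme.{u}}

section Blow

variable {I J : X.IdealSheafData} {π : Y ⟶ X} (hπ : BlowUp.IsBlowUp π (I ⊔ J))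

include hπ

/-- The divisor `D_1 + D_2 - E` exists on the blow-up. -/
theorem exists_mul_exceptional :
    ∃ K : Y.IdealSheafData, K * (I ⊔ J).comap π = I.comap π * J.comap π := by
  apply exists_mul_eq_of_le hπ.1
  refine (mul_le_left _ _).trans ?_
  exact Scheme.IdealSheafData.comap_mono π le_sup_left

variable {K : Y.IdealSheafData} (hK : K * (I ⊔ J).comap π = I.comap π * J.comap π)

include hK

theorem isEff_of_mul_exceptional (hI : BlowUp.IsEffCartierIdeal I) (hJ : BlowUp.IsEffCartierIdeal J) :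
    BlowUp.IsEffCartierIdeal K := by
  apply isEff_of_mul (𝓘 := K) (𝓙 := (I ⊔ J).comap π)
  rw [hK]
  exact isEff_mul (isEff_comap_of_isBlowUp hπ hI) (isEff_comap_of_isBlowUp hπ hJ)

theorem le_left_of_mul_exceptional : K ≤ I.comap π := by
  rw [← mul_le_mul_iff hπ.1, hK]
  exact mul_mono le_rfl (Scheme.IdealSheafData.comap_mono π le_sup_right)

theorem le_right_of_mul_exceptional : K ≤ J.comap π := by
  rw [← mul_le_mul_iff hπ.1, hK, mul_comm]
  exact mul_mono le_rfl (Scheme.IdealSheafData.comap_mono π le_sup_left)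

theorem interior_of_mul_exceptional : interior K = π ⁻¹ᵁ (interior I ⊓ interior J) := by
  have h1 : interior K ⊓ interior ((I ⊔ J).comap π) = interior (I.comap π) ⊓ interior (J.comap π) := by
    rw [← interior_mul, ← interior_mul, hK]
  have h2 : π ⁻¹ᵁ (interior I ⊓ interior J) = interior (I.comap π) ⊓ interior (J.comap π) := by
    rw [interior_comap, interior_comap]; rfl
  rw [h2]
  refine le_antisymm (le_inf (interior_mono (le_left_of_mul_exceptional hπ hK))
    (interior_mono (le_right_of_mul_exceptional hπ hK))) ?_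
  rw [← h1]
  exact inf_le_left

end Blow

section Prod

variable {f : X ⟶ S} {g : T ⟶ S} {I : X.IdealSheafData} {J : T.IdealSheafData}

/-- The ambient product exists. -/
theorem exists_isAmbProd (f : X ⟶ S) (g : T ⟶ S) (I : X.IdealSheafData) (J : T.IdealSheafData) :
    ∃ (Y : Scheme.{u}) (π : Y ⟶ mprod f g I J) (K : Y.IdealSheafData), IsAmbProd f g I J π K := by
  obtain ⟨Y, π, hπ⟩ := Groth.Agent.Flat2C.BlowExist.exists_isBlowUp (prodCentre f g I J)
  obtain ⟨K, hK⟩ := exists_mul_exceptional hπ
  exact ⟨Y, π, K, hπ, hK⟩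

variable {π : Y ⟶ mprod f g I J} {K : Y.IdealSheafData} (hY : IsAmbProd f g I J π K)

include hY

theorem isEff_of_isAmbProd (hI : BlowUp.IsEffCartierIdeal I) (hJ : BlowUp.IsEffCartierIdeal J) :
    BlowUp.IsEffCartierIdeal K :=
  isEff_of_mul_exceptional hY.1 hY.2 (isEff_comap_fst (locPrin_of_isEff hI) (locPrin_of_isEff hJ))
    (isEff_comap_snd (locPrin_of_isEff hI) (locPrin_of_isEff hJ))

theorem isAmbient_fst : IsAmbient K I (π ≫ mprodι f g I J ≫ pullback.fst f g) := by
  have := le_left_of_mul_exceptional hY.1 hY.2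
  rwa [← Scheme.IdealSheafData.comap_comp] at this

theorem isAmbient_snd : IsAmbient K J (π ≫ mprodι f g I J ≫ pullback.snd f g) := by
  have := le_right_of_mul_exceptional hY.1 hY.2
  rwa [← Scheme.IdealSheafData.comap_comp] at this

theorem interior_eq_of_isAmbProd : interior K = (π ≫ mprodι f g I J) ⁻¹ᵁ prodInterior f g I J := by
  rw [interior_of_mul_exceptional hY.1 hY.2, interior_comap, interior_comap]
  rfl

theorem isProper_π (hI : BlowUp.IsEffCartierIdeal I) (hJ : BlowUp.IsEffCartierIdeal J) : IsProper π := by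
  refine Groth.Agent.Flat2C.BlowProper.isProper_of_isBlowUp hY.1 ?_
  intro U
  have h1 := Groth.Agent.Flat2C.TorsIdeal.isFiniteTypeIdeal_of_isEff
    (isEff_comap_fst (f := f) (g := g) (locPrin_of_isEff hI) (locPrin_of_isEff hJ)) U
  have h2 := Groth.Agent.Flat2C.TorsIdeal.isFiniteTypeIdeal_of_isEff
    (isEff_comap_snd (f := f) (g := g) (locPrin_of_isEff hI) (locPrin_of_isEff hJ)) U
  change (_ ⊔ _ : Ideal _).FG
  exact Submodule.FG.sup h1 h2

/-- The universal property of the ambient product: a morphism `h` from a scheme `W` to the fibre product, such that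
the pull-backs of both moduli are effective Cartier, which lifts to `mprod` and such that the pull-back of the
sum of both moduli is effective Cartier, lifts uniquely to `Y`. -/
theorem existsUnique_lift {W : Scheme.{u}} {IW : W.IdealSheafData} (hW : BlowUp.IsEffCartierIdeal IW)
    (h : W ⟶ pullback f g)
    (h₁ : interior IW ≤ (h ≫ pullback.fst f g) ⁻¹ᵁ interior I)
    (h₂ : interior IW ≤ (h ≫ pullback.snd f g) ⁻¹ᵁ interior J)
    (h₃ : BlowUp.IsEffCartierIdeal (I.comap (h ≫ pullback.fst f g) ⊔ J.comap (h ≫ pullback.snd f g))) :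
    ∃! k : W ⟶ Y, k ≫ π ≫ mprodι f g I J = h := by
  obtain ⟨c, hc, hcu⟩ := K971.MProd.existsUnique_lift hW h h₁ h₂
  have hc3 : (prodCentre f g I J).comap c =
      I.comap (h ≫ pullback.fst f g) ⊔ J.comap (h ≫ pullback.snd f g) := by
    rw [prodCentre, Scheme.IdealSheafData.comap_sup, ← Scheme.IdealSheafData.comap_comp,
      ← Scheme.IdealSheafData.comap_comp, reassoc_of% hc, reassoc_of% hc]
  obtain ⟨k, hk, hku⟩ := hY.1.2 W c (by rw [hc3]; exact h₃)
  refine ⟨k, ?_, fun k' hk' ↦ hku k' ?_⟩
  · change k ≫ π ≫ _ = h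
    rw [reassoc_of% hk]; exact hc
  · exact hcu (k' ≫ π) ((Category.assoc _ _ _).trans hk')

theorem comap_mul_comap {W : Scheme.{u}} (k : W ⟶ Y) :
    K.comap k * (I.comap (k ≫ π ≫ mprodι f g I J ≫ pullback.fst f g) ⊔
        J.comap (k ≫ π ≫ mprodι f g I J ≫ pullback.snd f g)) =
      I.comap (k ≫ π ≫ mprodι f g I J ≫ pullback.fst f g) *
        J.comap (k ≫ π ≫ mprodι f g I J ≫ pullback.snd f g) := by
  have h := congrArg (fun L : Y.IdealSheafData ↦ L.comap k) hY.2
  simp only [comap_mul, prodCentre, Scheme.IdealSheafData.comap_sup] at h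
  simpa only [Scheme.IdealSheafData.comap_comp] using h

end Prod

end K972.AmbProd
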