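import Mathlib.CategoryTheory.Localization.CalculusOfFractions
import Mathlib.CategoryTheory.Localization.Construction
import Mathlib.CategoryTheory.Limits.Shapes.Pullback.IsPullback.Defs
import Mathlib.CategoryTheory.Limits.Shapes.Pullback.IsPullback.Basic

/-!
# Right calculus of fractions: common denominators and pull-back squares in the localization
-/

set_option autoImplicit false

open CategoryTheory CategoryTheory.Limits

universe v₁ v₂ u₁ u₂

namespace K972.Frac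

variable {C : Type u₁} [Category.{v₁} C] {D : Type u₂} [Category.{v₂} D]
  (L : C ⥤ D) (W : MorphismProperty C) [L.IsLocalization W] [W.HasRightCalculusOfFractions]

include W

/-- Every morphism in the localization becomes a morphism of `C` after precomposition with some element of `W`. -/
theorem exists_rep {Z A : C} (α : L.obj Z ⟶ L.obj A) :
    ∃ (Z' : C) (s : Z' ⟶ Z) (_ : W s) (a : Z' ⟶ A), L.map s ≫ α = L.map a := by
  obtain ⟨φ, hφ⟩ := Localization.exists_rightFraction L W α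
  exact ⟨φ.X', φ.s, φ.hs, φ.f, by rw [hφ]; exact φ.map_s_comp_map L (Localization.inverts L W)⟩

/-- Common denominators for two morphisms. -/
theorem exists_rep₂ {Z A B : C} (α : L.obj Z ⟶ L.obj A) (β : L.obj Z ⟶ L.obj B) :
    ∃ (Z' : C) (s : Z' ⟶ Z) (_ : W s) (a : Z' ⟶ A) (b : Z' ⟶ B),
      L.map s ≫ α = L.map a ∧ L.map s ≫ β = L.map b := by
  obtain ⟨Z₁, s₁, hs₁, a, ha⟩ := exists_rep L W α
  obtain ⟨Z₂, s₂, hs₂, b, hb⟩ := exists_rep L W (L.map s₁ ≫ β)
  refine ⟨Z₂, s₂ ≫ s₁, W.comp_mem _ _ hs₂ hs₁, s₂ ≫ a, b, ?_, ?_⟩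
  · rw [L.map_comp, L.map_comp, Category.assoc, ha]
  · rw [L.map_comp, Category.assoc, hb]

theorem isIso_map {X Y : C} {s : X ⟶ Y} (hs : W s) : IsIso (L.map s) := Localization.inverts L W s hs

theorem cancel_map {X Y : C} {s : X ⟶ Y} (hs : W s) {E : D} {f g : L.obj Y ⟶ E}
    (h : L.map s ≫ f = L.map s ≫ g) : f = g := by
  have := isIso_map L W hs
  exact (cancel_epi (L.map s)).1 h

/-- Two morphisms equal in the localization become equal after precomposition with an element of `W`. -/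
theorem exists_eq {Y Z : C} {f g : Y ⟶ Z} (h : L.map f = L.map g) :
    ∃ (X : C) (s : X ⟶ Y) (_ : W s), s ≫ f = s ≫ g :=
  (MorphismProperty.map_eq_iff_precomp L W f g).1 h

/-- A commutative square in `C` which satisfies the existence and uniqueness part of the universal property of
a pull-back after precomposition with elements of `W` becomes a pull-back square in the localization. -/
theorem isPullback {Y T X P : C} {t : Y ⟶ T} {x : Y ⟶ X} {g : T ⟶ P} {f : X ⟶ P}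
    (w : t ≫ g = x ≫ f)
    (hex : ∀ (Z : C) (b : Z ⟶ T) (a : Z ⟶ X), b ≫ g = a ≫ f →
      ∃ (Z' : C) (s : Z' ⟶ Z) (_ : W s) (k : Z' ⟶ Y), k ≫ t = s ≫ b ∧ k ≫ x = s ≫ a)
    (huniq : ∀ (Z : C) (k k' : Z ⟶ Y), k ≫ t = k' ≫ t → k ≫ x = k' ≫ x →
      ∃ (Z' : C) (s : Z' ⟶ Z) (_ : W s), s ≫ k = s ≫ k') :
    IsPullback (L.map t) (L.map x) (L.map g) (L.map f) := by
  have hess : L.EssSurj := Localization.essSurj L W
  have key : ∀ c : PullbackCone (L.map g) (L.map f),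
      ∃ γ : c.pt ⟶ L.obj Y, γ ≫ L.map t = c.fst ∧ γ ≫ L.map x = c.snd := by
    intro c
    let e := L.objObjPreimageIso c.pt
    obtain ⟨Z₁, s₁, hs₁, b, a, hb, ha⟩ := exists_rep₂ L W (e.hom ≫ c.fst) (e.hom ≫ c.snd)
    have h1 : L.map (b ≫ g) = L.map (a ≫ f) := by
      rw [L.map_comp, L.map_comp, ← hb, ← ha]
      simp only [Category.assoc]
      rw [c.condition]
    obtain ⟨Z₂, s₂, hs₂, h2⟩ := exists_eq L W h1
    obtain ⟨Z₃, s₃, hs₃, k, hk1, hk2⟩ := hex Z₂ (s₂ ≫ b) (s₂ ≫ a) (by simpa using h2)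
    have hs : W (s₃ ≫ s₂ ≫ s₁) := W.comp_mem _ _ hs₃ (W.comp_mem _ _ hs₂ hs₁)
    have := isIso_map L W hs
    refine ⟨e.inv ≫ inv (L.map (s₃ ≫ s₂ ≫ s₁)) ≫ L.map k, ?_, ?_⟩
    · rw [Category.assoc, Category.assoc, Iso.inv_comp_eq, IsIso.inv_comp_eq, ← L.map_comp, hk1,
        L.map_comp, L.map_comp, L.map_comp, L.map_comp, Category.assoc, Category.assoc, hb]
    · rw [Category.assoc, Category.assoc, Iso.inv_comp_eq, IsIso.inv_comp_eq, ← L.map_comp, hk2,
        L.map_comp, L.map_comp, L.map_comp, L.map_comp, Category.assoc, Category.assoc, ha]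
  have key2 : ∀ (c : PullbackCone (L.map g) (L.map f)) (m m' : c.pt ⟶ L.obj Y),
      m ≫ L.map t = m' ≫ L.map t → m ≫ L.map x = m' ≫ L.map x → m = m' := by
    intro c m m' h1 h2
    let e := L.objObjPreimageIso c.pt
    obtain ⟨Z₁, s₁, hs₁, k, k', hk, hk'⟩ := exists_rep₂ L W (e.hom ≫ m) (e.hom ≫ m')
    obtain ⟨Z₂, s₂, hs₂, h3⟩ := exists_eq L W (show L.map (k ≫ t) = L.map (k' ≫ t) by
      rw [L.map_comp, L.map_comp, ← hk, ← hk']
      simp only [Category.assoc]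
      rw [h1])
    obtain ⟨Z₃, s₃, hs₃, h4⟩ := exists_eq L W (show L.map (k ≫ x) = L.map (k' ≫ x) by
      rw [L.map_comp, L.map_comp, ← hk, ← hk']
      simp only [Category.assoc]
      rw [h2])
    obtain ⟨ψ, hψ⟩ := (MorphismProperty.LeftFraction.mk s₂ s₃ hs₃).exists_rightFraction
    obtain ⟨Z₄, s₄, hs₄, h5⟩ := huniq _ (ψ.s ≫ s₂ ≫ k) (ψ.s ≫ s₂ ≫ k') (by
      simp only [Category.assoc]; rw [h3]) (by
      have hψ' : ψ.s ≫ s₂ = ψ.f ≫ s₃ := hψ
      rw [← Category.assoc, hψ', ← Category.assoc _ _ k', hψ']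
      simp only [Category.assoc]; rw [h4])
    have hs : W (s₄ ≫ ψ.s ≫ s₂ ≫ s₁) :=
      W.comp_mem _ _ hs₄ (W.comp_mem _ _ ψ.hs (W.comp_mem _ _ hs₂ hs₁))
    rw [← cancel_epi e.hom]
    apply cancel_map L W hs
    rw [L.map_comp, L.map_comp, L.map_comp]
    simp only [Category.assoc]
    rw [hk, hk']
    simp only [← L.map_comp]
    rw [h5]
  choose γ hγ₁ hγ₂ using key
  exact ⟨⟨by rw [← L.map_comp, w, L.map_comp]⟩, ⟨PullbackCone.IsLimit.mk _ γ hγ₁ hγ₂
    fun c m h1 h2 ↦ key2 c m (γ c) (h1.trans (hγ₁ c).symm) (h2.trans (hγ₂ c).symm)⟩⟩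

end K972.Frac
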