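import Groth.Agent.ModPair.K972.AmbProd
import Groth.Agent.ModPair.K972.Frac

/-!
# Ambient products are fibre products in the localization
-/

set_option autoImplicit false
universe u

open CategoryTheory CategoryTheory.Limits AlgebraicGeometry TopologicalSpace

namespace K972.AmbPull

open ModPair K971.Basic K971.MProd Groth.Agent.Divis.EffCartier Groth.Agent.Divis.IdealComap
  Groth.Agent.Divis.BlowUpFormal

/-- The blow-up of a modulus pair in a finite type ideal sheaf containing the modulus is an abstract admissible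
blow-up. -/
theorem isAdmBlowup_of_isBlowUp {X X' : Scheme.{u}} {I E : X.IdealSheafData}
    (hE : BlowUp.IsFiniteTypeIdeal E) (hIE : interior I ≤ interior E) {b : X' ⟶ X}
    (hb : BlowUp.IsBlowUp b E) : IsAdmBlowup (I.comap b) I b := by
  refine ⟨rfl, Groth.Agent.Flat2C.BlowProper.isProper_of_isBlowUp hb hE, ?_⟩
  apply isIso_morphismRestrict_compl_support hb
  rw [Set.disjoint_left]
  intro x hx hx'
  exact hIE hx hx'

/-- (I ∩ J)(I + J) ⊆ I J, for ideal sheaves, in the form needed. -/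
theorem mul_sup_le {X : Scheme.{u}} {M I J : X.IdealSheafData} (hI : M ≤ I) (hJ : M ≤ J) :
    M * (I ⊔ J) ≤ I * J := by
  rw [mul_sup]
  refine sup_le ?_ ?_
  · rw [mul_comm I J]; exact mul_mono hJ le_rfl
  · exact mul_mono hI le_rfl

section

variable (P T X : Pair.{u}) (f : X ⟶ P) (g : T ⟶ P)
    {Y : Scheme.{u}} (π : Y ⟶ mprod f.hom g.hom X.mod T.mod) (K : Y.IdealSheafData)
    (hY : IsAmbProd f.hom g.hom X.mod T.mod π K)

include hY

/-- existence part -/
theorem exists_lift (Z : Pair.{u}) (b : Z ⟶ T) (a : Z ⟶ X) (h : b ≫ g = a ≫ f) :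
    ∃ (Z' : Pair.{u}) (s : Z' ⟶ Z) (_ : Pair.admBlowup s) (k : Z'.total ⟶ Y),
      IsAmbient Z'.mod K k ∧ k ≫ π ≫ mprodι f.hom g.hom X.mod T.mod ≫ pullback.snd f.hom g.hom = s.hom ≫ b.hom ∧
        k ≫ π ≫ mprodι f.hom g.hom X.mod T.mod ≫ pullback.fst f.hom g.hom = s.hom ≫ a.hom := by
  have hw : a.hom ≫ f.hom = b.hom ≫ g.hom := (congrArg Pair.Hom.hom h).symm
  have hIe : BlowUp.IsEffCartierIdeal (X.mod.comap a.hom) :=
    isEff_comap_of_ambient Z.isEffCartier (locPrin_of_isEff X.isEffCartier) a.cond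
  have hJe : BlowUp.IsEffCartierIdeal (T.mod.comap b.hom) :=
    isEff_comap_of_ambient Z.isEffCartier (locPrin_of_isEff T.isEffCartier) b.cond
  obtain ⟨Z', β, hβ⟩ := Groth.Agent.Flat2C.BlowExist.exists_isBlowUp (X.mod.comap a.hom ⊔ T.mod.comap b.hom)
  have hft : BlowUp.IsFiniteTypeIdeal (X.mod.comap a.hom ⊔ T.mod.comap b.hom) := fun U ↦ by
    change (_ ⊔ _ : Ideal _).FG
    exact Submodule.FG.sup (Groth.Agent.Flat2C.TorsIdeal.isFiniteTypeIdeal_of_isEff hIe U)
      (Groth.Agent.Flat2C.TorsIdeal.isFiniteTypeIdeal_of_isEff hJe U)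
  have hadm : IsAdmBlowup (Z.mod.comap β) Z.mod β :=
    isAdmBlowup_of_isBlowUp hft (interior_mono (a.cond.trans le_sup_left)) hβ
  have heff : BlowUp.IsEffCartierIdeal (Z.mod.comap β) := isEff_comap_of_isBlowUp hβ Z.isEffCartier
  let Z'' : Pair.{u} := ⟨Z', Z.mod.comap β, heff⟩
  let s : Z'' ⟶ Z := ⟨β, le_rfl⟩
  let hh : Z' ⟶ pullback f.hom g.hom := pullback.lift (β ≫ a.hom) (β ≫ b.hom) (by simp [hw])
  have h1 : hh ≫ pullback.fst f.hom g.hom = β ≫ a.hom := pullback.lift_fst _ _ _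
  have h2 : hh ≫ pullback.snd f.hom g.hom = β ≫ b.hom := pullback.lift_snd _ _ _
  have c1 : IsAmbient (Z.mod.comap β) X.mod (β ≫ a.hom) := isAmbient_comp (le_refl _) a.cond
  have c2 : IsAmbient (Z.mod.comap β) T.mod (β ≫ b.hom) := isAmbient_comp (le_refl _) b.cond
  obtain ⟨k, hk, -⟩ := AmbProd.existsUnique_lift hY heff hh
    (by rw [h1]; exact ambient_interior_le c1) (by rw [h2]; exact ambient_interior_le c2)
    (by
      rw [h1, h2, Scheme.IdealSheafData.comap_comp, Scheme.IdealSheafData.comap_comp,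
        ← Scheme.IdealSheafData.comap_sup]
      exact hβ.1)
  have hk' : k ≫ π ≫ mprodι f.hom g.hom X.mod T.mod = hh := hk
  have k1 : k ≫ π ≫ mprodι f.hom g.hom X.mod T.mod ≫ pullback.fst f.hom g.hom = β ≫ a.hom := by
    rw [← h1, ← hk']; simp only [Category.assoc]
  have k2 : k ≫ π ≫ mprodι f.hom g.hom X.mod T.mod ≫ pullback.snd f.hom g.hom = β ≫ b.hom := by
    rw [← h2, ← hk']; simp only [Category.assoc]
  refine ⟨Z'', s, hadm, k, ?_, k2, k1⟩
  change Z.mod.comap β ≤ K.comap k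
  have h3 := AmbProd.comap_mul_comap hY k
  rw [k1, k2] at h3
  have hE : BlowUp.IsEffCartierIdeal (X.mod.comap (β ≫ a.hom) ⊔ T.mod.comap (β ≫ b.hom)) := by
    rw [Scheme.IdealSheafData.comap_comp, Scheme.IdealSheafData.comap_comp,
        ← Scheme.IdealSheafData.comap_sup]
    exact hβ.1
  rw [← mul_le_mul_iff hE, h3]
  exact mul_sup_le c1 c2

/-- uniqueness part -/
theorem hom_ext (Z : Pair.{u}) (k k' : Z.total ⟶ Y) (hk : IsAmbient Z.mod K k)
    (hX : IsAmbient K X.mod (π ≫ mprodι f.hom g.hom X.mod T.mod ≫ pullback.fst f.hom g.hom))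
    (hT : IsAmbient K T.mod (π ≫ mprodι f.hom g.hom X.mod T.mod ≫ pullback.snd f.hom g.hom))
    (h1 : k ≫ π ≫ mprodι f.hom g.hom X.mod T.mod ≫ pullback.snd f.hom g.hom =
      k' ≫ π ≫ mprodι f.hom g.hom X.mod T.mod ≫ pullback.snd f.hom g.hom)
    (h2 : k ≫ π ≫ mprodι f.hom g.hom X.mod T.mod ≫ pullback.fst f.hom g.hom =
      k' ≫ π ≫ mprodι f.hom g.hom X.mod T.mod ≫ pullback.fst f.hom g.hom) : k = k' := by
  have c1 : IsAmbient Z.mod X.mod (k ≫ π ≫ mprodι f.hom g.hom X.mod T.mod ≫ pullback.fst f.hom g.hom) :=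
    isAmbient_comp hk hX
  have c2 : IsAmbient Z.mod T.mod (k ≫ π ≫ mprodι f.hom g.hom X.mod T.mod ≫ pullback.snd f.hom g.hom) :=
    isAmbient_comp hk hT
  have e1 := isEff_comap_of_ambient Z.isEffCartier (locPrin_of_isEff X.isEffCartier) c1
  have e2 := isEff_comap_of_ambient Z.isEffCartier (locPrin_of_isEff T.isEffCartier) c2
  have h3 := AmbProd.comap_mul_comap hY k
  have hE : BlowUp.IsEffCartierIdeal
      (X.mod.comap (k ≫ π ≫ mprodι f.hom g.hom X.mod T.mod ≫ pullback.fst f.hom g.hom) ⊔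
        T.mod.comap (k ≫ π ≫ mprodι f.hom g.hom X.mod T.mod ≫ pullback.snd f.hom g.hom)) :=
    isEff_of_mul_right (𝓘 := K.comap k) (by rw [h3]; exact isEff_mul e1 e2)
  refine (AmbProd.existsUnique_lift hY Z.isEffCartier (k ≫ π ≫ mprodι f.hom g.hom X.mod T.mod)
    ?_ ?_ ?_).unique rfl ?_
  · simp only [Category.assoc]; exact ambient_interior_le c1
  · simp only [Category.assoc]; exact ambient_interior_le c2
  · simp only [Category.assoc]; exact hE
  · apply pullback.hom_ext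
    · simp only [Category.assoc]; exact h2.symm
    · simp only [Category.assoc]; exact h1.symm

theorem isPullback {D : Type*} [Category D] (L : Pair.{u} ⥤ D) [L.IsLocalization Pair.admBlowup.{u}]
    [(Pair.admBlowup.{u}).HasRightCalculusOfFractions]
    (hK : BlowUp.IsEffCartierIdeal K)
    (hX : IsAmbient K X.mod (π ≫ mprodι f.hom g.hom X.mod T.mod ≫ pullback.fst f.hom g.hom))
    (hT : IsAmbient K T.mod (π ≫ mprodι f.hom g.hom X.mod T.mod ≫ pullback.snd f.hom g.hom)) :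
    IsPullback
      (L.map (Pair.Hom.mk (P := Pair.mk Y K hK) (Q := T)
          (π ≫ mprodι f.hom g.hom X.mod T.mod ≫ pullback.snd f.hom g.hom) hT))
      (L.map (Pair.Hom.mk (P := Pair.mk Y K hK) (Q := X)
          (π ≫ mprodι f.hom g.hom X.mod T.mod ≫ pullback.fst f.hom g.hom) hX))
      (L.map g) (L.map f) := by
  apply Frac.isPullback L Pair.admBlowup
  · apply Pair.Hom.ext
    change (π ≫ mprodι f.hom g.hom X.mod T.mod ≫ pullback.snd f.hom g.hom) ≫ g.hom =
      (π ≫ mprodι f.hom g.hom X.mod T.mod ≫ pullback.fst f.hom g.hom) ≫ f.hom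
    simp only [Category.assoc, pullback.condition]
  · intro Z b a h
    obtain ⟨Z', s, hs, k, hk, hk1, hk2⟩ := exists_lift P T X f g π K hY Z b a h
    exact ⟨Z', s, hs, Pair.Hom.mk (P := Z') (Q := Pair.mk Y K hK) k hk, Pair.Hom.ext hk1, Pair.Hom.ext hk2⟩
  · intro Z k k' h1 h2
    have : k = k' := Pair.Hom.ext (hom_ext P T X f g π K hY Z k.hom k'.hom k.cond hX hT
      (congrArg Pair.Hom.hom h1) (congrArg Pair.Hom.hom h2))
    subst this
    exact ⟨Z, 𝟙 Z, MorphismProperty.id_mem _ _, rfl⟩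

end

end K972.AmbPull
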