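import Groth.Agent.ModPair.K971.LimBasic
import Groth.Agent.Sga3C.SchemImage

/-!
# The system of scheme-theoretic images of a cofiltered limit

`D : I ⥤ Over S` with affine transition maps and limit cone `c`; `imFun` is the system of scheme-theoretic images of
`c.pt` in the `D i`; its limit is still `c.pt` and its transition maps are affine and scheme-theoretically dominant.
-/

set_option autoImplicit false
universe u

open CategoryTheory CategoryTheory.Limits AlgebraicGeometry TopologicalSpace

namespace K972.LimImage

variable {S : Scheme.{u}} {I : Type u} [SmallCategory I] (D : I ⥤ Over S) (c : Cone D)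
  [∀ i, QuasiCompact (c.π.app i).left]

theorem ker_toImage_comp {X Y Z : Scheme.{u}} (f : X ⟶ Y) (g : Y ⟶ Z) [QuasiCompact f] :
    (f.toImage ≫ f.imageι ≫ g).ker = (f.imageι ≫ g).ker := by
  have := Groth.Agent.Sga3C.SchemImage.dominant_toImage f
  rw [Scheme.Hom.ker_comp f.toImage, f.toImage.ker_eq_bot, Scheme.IdealSheafData.map_bot]

theorem ker_le {i j : I} (t : i ⟶ j) :
    (c.π.app j).left.imageι.ker ≤ ((c.π.app i).left.imageι ≫ (D.map t).left).ker := by
  have h1 : (c.π.app j).left = (c.π.app i).left.toImage ≫ (c.π.app i).left.imageι ≫ (D.map t).left := by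
    rw [← Category.assoc, Scheme.Hom.toImage_imageι, ← c.w t, Over.comp_left]
  have h2 : (c.π.app j).left.imageι.ker = (c.π.app j).left.ker := Scheme.IdealSheafData.ker_subschemeι _
  rw [h2, ← ker_toImage_comp, ← h1]

/-- the transition maps of the system of images -/
noncomputable def imMap {i j : I} (t : i ⟶ j) : (c.π.app i).left.image ⟶ (c.π.app j).left.image :=
  IsClosedImmersion.lift (c.π.app j).left.imageι ((c.π.app i).left.imageι ≫ (D.map t).left) (ker_le D c t)

@[reassoc (attr := simp)]
theorem imMap_imageι {i j : I} (t : i ⟶ j) :
    imMap D c t ≫ (c.π.app j).left.imageι = (c.π.app i).left.imageι ≫ (D.map t).left :=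
  IsClosedImmersion.lift_fac _ _ _

/-- the system of images -/
noncomputable def imFun : I ⥤ Over S where
  obj i := Over.mk ((c.π.app i).left.imageι ≫ (D.obj i).hom)
  map {i j} t := Over.homMk (imMap D c t) (by simp)
  map_id i := by
    ext : 1
    change imMap D c (𝟙 i) = 𝟙 _
    rw [← cancel_mono (c.π.app i).left.imageι, imMap_imageι, D.map_id]
    simp
  map_comp {i j k} s t := by
    ext : 1
    change imMap D c (s ≫ t) = imMap D c s ≫ imMap D c t
    rw [← cancel_mono (c.π.app k).left.imageι, imMap_imageι, Category.assoc, imMap_imageι, imMap_imageι_assoc,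
      D.map_comp, Over.comp_left]

@[simp] theorem imFun_map_left {i j : I} (t : i ⟶ j) : ((imFun D c).map t).left = imMap D c t := rfl

theorem imFun_obj_left (i : I) : ((imFun D c).obj i).left = (c.π.app i).left.image := rfl

/-- the inclusion of the system of images -/
noncomputable def imIncl : imFun D c ⟶ D where
  app i := Over.homMk (c.π.app i).left.imageι rfl
  naturality i j t := by
    ext : 1
    exact imMap_imageι D c t

theorem imIncl_app_left (i : I) : ((imIncl D c).app i).left = (c.π.app i).left.imageι := rfl

instance (i : I) : IsClosedImmersion ((imIncl D c).app i).left :=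
  inferInstanceAs (IsClosedImmersion (c.π.app i).left.imageι)

instance mono_imIncl (i : I) : Mono ((imIncl D c).app i) := by
  have : Mono ((imIncl D c).app i).left := inferInstance
  exact Over.mono_of_mono_left _

/-- the cone of the system of images -/
noncomputable def imCone : Cone (imFun D c) where
  pt := c.pt
  π :=
    { app i := Over.homMk (c.π.app i).left.toImage (by
        change (c.π.app i).left.toImage ≫ (c.π.app i).left.imageι ≫ (D.obj i).hom = c.pt.hom
        rw [← Category.assoc, Scheme.Hom.toImage_imageι, Over.w]
        rfl)
      naturality i j t := by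
        ext : 1
        change 𝟙 _ ≫ (c.π.app j).left.toImage = (c.π.app i).left.toImage ≫ imMap D c t
        rw [← cancel_mono (c.π.app j).left.imageι, Category.id_comp, Category.assoc, imMap_imageι,
          Scheme.Hom.toImage_imageι, ← Category.assoc, Scheme.Hom.toImage_imageι, ← c.w t, Over.comp_left] }

theorem imCone_π_left (i : I) : ((imCone D c).π.app i).left = (c.π.app i).left.toImage := rfl

theorem imCone_π_comp (i : I) : (imCone D c).π.app i ≫ (imIncl D c).app i = c.π.app i := by
  ext : 1
  exact Scheme.Hom.toImage_imageι _

variable {c}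

/-- the limit of the system of images -/
noncomputable def isLimit_imCone (hc : IsLimit c) : IsLimit (imCone D c) where
  lift s := hc.lift ((Cone.postcompose (imIncl D c)).obj s)
  fac s i := by
    have := mono_imIncl D c i
    refine (cancel_mono ((imIncl D c).app i)).1 ?_
    have h1 := hc.fac ((Cone.postcompose (imIncl D c)).obj s) i
    have h2 := imCone_π_comp D c i
    exact (Category.assoc _ _ _).trans ((congrArg (_ ≫ ·) h2).trans h1)
  uniq s m h := hc.hom_ext fun i => by
    have h1 := hc.fac ((Cone.postcompose (imIncl D c)).obj s) i
    refine Eq.trans ?_ h1.symm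
    have h2 := imCone_π_comp D c i
    exact (congrArg (m ≫ ·) h2.symm).trans
      ((Category.assoc _ _ _).symm.trans (congrArg (· ≫ (imIncl D c).app i) (h i)))

variable (c)

theorem isAffineHom_imMap {i j : I} (t : i ⟶ j) [IsAffineHom (D.map t).left] : IsAffineHom (imMap D c t) := by
  have : IsAffineHom (imMap D c t ≫ (c.π.app j).left.imageι) := by
    rw [imMap_imageι]; infer_instance
  exact IsAffineHom.of_comp _ (c.π.app j).left.imageι

theorem dominant_imMap {i j : I} (t : i ⟶ j) : IsSchemeTheoreticallyDominant (imMap D c t) := by
  have := Groth.Agent.Sga3C.SchemImage.dominant_toImage (c.π.app j).left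
  have h : (c.π.app i).left.toImage ≫ imMap D c t = (c.π.app j).left.toImage := by
    have := congrArg (fun f => f.left) ((imCone D c).w t)
    exact this
  have : IsSchemeTheoreticallyDominant ((c.π.app i).left.toImage ≫ imMap D c t) := by rw [h]; infer_instance
  exact K971.Basic.dominant_of_comp (c.π.app i).left.toImage _

end K972.LimImage
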