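import Groth.Agent.ModPair.K972.LimStage
import Groth.Agent.ModPair.K972.LimImage
import Groth.Agent.ModPair.K971.LimHom
import Groth.Agent.S9199
import Groth.Agent.S7383
import Groth.Agent.S10855

/-!
# Absolute approximation of modulus pairs

* `exists_dominant_system`: a quasi-compact separated morphism to a quasi-compact quasi-separated scheme is the limit
  of a system of separated morphisms of finite type with affine scheme-theoretically dominant transition maps.
* `exists_pairs`: the same with moduli.
-/

set_option autoImplicit false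
universe u

open CategoryTheory CategoryTheory.Limits AlgebraicGeometry TopologicalSpace

namespace K972.AbsApprox

open ModPair K971.Basic K971.LimHom K972.LimImage K972.LimStage

section restrict

variable {S : Scheme.{u}} {I : Type u} [SmallCategory I] [IsCofiltered I] (D : I ⥤ Over S) (c : Cone D)

/-- the restriction of a limit cone to a slice of a cofiltered category is a limit cone -/
noncomputable def isLimitOver (hc : IsLimit c) (i : I) : IsLimit (c.whisker (Over.forget i)) :=
  (Functor.Initial.isLimitWhiskerEquiv (Over.forget i) c).symm hc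

end restrict

theorem compactSpace_image {X Y : Scheme.{u}} (f : X ⟶ Y) [CompactSpace Y] : CompactSpace f.image :=
  QuasiCompact.compactSpace_of_compactSpace f.imageι

theorem quasiSeparatedSpace_image {X Y : Scheme.{u}} (f : X ⟶ Y) [QuasiSeparatedSpace Y] :
    QuasiSeparatedSpace f.image := quasiSeparatedSpace_of_quasiSeparated f.imageι

theorem isSeparated_iso_comp {S X : Scheme.{u}} {f : X ⟶ S} [IsSeparated f] {Y : Over S} (e : Y ≅ Over.mk f) :
    IsSeparated (e.hom.left ≫ f) := by
  have : IsIso e.hom.left := inferInstanceAs (IsIso ((Over.forget S).map e.hom))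
  infer_instance

theorem exists_dominant_system {X S : Scheme.{u}} (f : X ⟶ S) [CompactSpace S] [QuasiSeparatedSpace S]
    [QuasiCompact f] [IsSeparated f] : ∃ (I : Type u) (_ : SmallCategory I) (_ : IsCofiltered I) (D : I ⥤ Over S)
      (c : Cone D) (_ : IsLimit c) (_ : c.pt ≅ Over.mk f),
      (∀ i, LocallyOfFiniteType (D.obj i).hom ∧ QuasiCompact (D.obj i).hom ∧ IsSeparated (D.obj i).hom) ∧
      (∀ (i j : I) (t : i ⟶ j), IsAffineHom (D.map t).left ∧ IsSchemeTheoreticallyDominant (D.map t).left) := by
  have hX : CompactSpace X := QuasiCompact.compactSpace_of_compactSpace f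
  have hX' : QuasiSeparatedSpace X := quasiSeparatedSpace_of_quasiSeparated f
  obtain ⟨I, _, _, _, D, c, hc, hD, haff, ⟨e⟩⟩ := Groth.Agent.S7383.result f
  have h1 : ∀ i, CompactSpace (D.obj i).left := fun i => by
    have := (hD i).2.1
    exact QuasiCompact.compactSpace_of_compactSpace (D.obj i).hom
  have h2 : ∀ i, QuasiSeparatedSpace (D.obj i).left := fun i => by
    have := (hD i).2.2
    exact quasiSeparatedSpace_of_quasiSeparated (D.obj i).hom
  have h3 : ∀ {i j : Iᵒᵖ} (t : i ⟶ j), IsAffineHom ((D ⋙ Over.forget S).map t) := fun t => haff _ _ t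
  have h4 : ∀ i, IsAffineHom (c.π.app i).left := fun i =>
    isAffineHom_π_app (D ⋙ Over.forget S) _ (isLimitOfPreserves (Over.forget S) hc) i
  have h5 : ∀ i, QuasiCompact (c.π.app i).left := fun i => inferInstance
  let D' := imFun D c
  let c' := imCone D c
  have hc' : IsLimit c' := isLimit_imCone D hc
  have h6 : ∀ i, CompactSpace (D'.obj i).left := fun i => by
    have := h1 i
    exact compactSpace_image (c.π.app i).left
  have h7 : ∀ i, QuasiSeparatedSpace (D'.obj i).left := fun i => by
    have := h2 i
    exact quasiSeparatedSpace_image (c.π.app i).left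
  have h8 : ∀ (i j : Iᵒᵖ) (t : i ⟶ j), IsAffineHom ((D' ⋙ Over.forget S).map t) := fun i j t => by
    have := haff _ _ t
    exact isAffineHom_imMap D c t
  have h9 : ∀ i, CompactSpace ((D' ⋙ Over.forget S).obj i) := h6
  have h10 : ∀ i, QuasiSeparatedSpace ((D' ⋙ Over.forget S).obj i) := h7
  have hsep : ∀ i, IsSeparated ((((Over.forget S).mapCone c').π.app i) ≫ (structMap D').app i) := fun i => by
    have : (((Over.forget S).mapCone c').π.app i) ≫ (structMap D').app i = e.hom.left ≫ f := by
      have h11 := Over.w (c'.π.app i)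
      have h12 := Over.w e.hom
      exact h11.trans h12.symm
    rw [this]
    exact isSeparated_iso_comp e
  obtain ⟨i₀⟩ := IsCofiltered.nonempty (C := Iᵒᵖ)
  have := hsep i₀
  obtain ⟨i₁, hi₁⟩ := Groth.Agent.S9199.result S (D' ⋙ Over.forget S) (structMap D') ((Over.forget S).mapCone c')
    (isLimitOfPreserves (Over.forget S) hc') i₀
  refine ⟨Over i₁, inferInstance, inferInstance, Over.forget i₁ ⋙ D', c'.whisker (Over.forget i₁),
    isLimitOver D' c' hc' i₁, e, fun i => ⟨?_, ?_, hi₁ i.left i.hom⟩, fun i j t => ⟨?_, ?_⟩⟩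
  · have := (hD i.left).1
    exact inferInstanceAs (LocallyOfFiniteType ((c.π.app i.left).left.imageι ≫ (D.obj i.left).hom))
  · have := (hD i.left).2.1
    exact inferInstanceAs (QuasiCompact ((c.π.app i.left).left.imageι ≫ (D.obj i.left).hom))
  · exact h8 _ _ t.left
  · exact dominant_imMap D c t.left

/-- Descent of the modulus along the system. -/
theorem exists_modulus {S : Scheme.{u}} [CompactSpace S] [QuasiSeparatedSpace S] {I : Type u} [SmallCategory I]
    [IsCofiltered I] (D : I ⥤ Over S) (c : Cone D) (hc : IsLimit c)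
    (hD : ∀ i, LocallyOfFiniteType (D.obj i).hom ∧ QuasiCompact (D.obj i).hom ∧ IsSeparated (D.obj i).hom)
    (hDt : ∀ (i j : I) (t : i ⟶ j), IsAffineHom (D.map t).left ∧ IsSchemeTheoreticallyDominant (D.map t).left)
    (IS : S.IdealSheafData) (L : c.pt.left.IdealSheafData) (hL : BlowUp.IsEffCartierIdeal L)
    (hLS : L ≤ IS.comap c.pt.hom) :
    ∃ (i : I) (M : (D.obj i).left.IdealSheafData), M.comap (c.π.app i).left = L ∧ M ≤ IS.comap (D.obj i).hom ∧
      BlowUp.IsEffCartierIdeal M := by
  have h1' : ∀ i, CompactSpace (D.obj i).left := fun i => by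
    have := (hD i).2.1
    exact QuasiCompact.compactSpace_of_compactSpace (D.obj i).hom
  have h2' : ∀ i, QuasiSeparatedSpace (D.obj i).left := fun i => by
    have := (hD i).2.2
    exact quasiSeparatedSpace_of_quasiSeparated (D.obj i).hom
  have h1 : ∀ i, CompactSpace ((D ⋙ Over.forget S).obj i) := h1'
  have h2 : ∀ i, QuasiSeparatedSpace ((D ⋙ Over.forget S).obj i) := h2'
  have h3 : ∀ {i j : I} (t : i ⟶ j), IsAffineHom ((D ⋙ Over.forget S).map t) := fun t => (hDt _ _ t).1
  have hc' := isLimitOfPreserves (Over.forget S) hc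
  have h5 : ∀ (i j : I) (t : i ⟶ j), IsSchemeTheoreticallyDominant ((D ⋙ Over.forget S).map t) :=
    fun i j t => (hDt _ _ t).2
  have h6 : ∀ i, IsSchemeTheoreticallyDominant (((Over.forget S).mapCone c).π.app i) := fun i =>
    K971.LimBasic.dominant_π hc' i
  have h4 : ∀ i, IsAffineHom (((Over.forget S).mapCone c).π.app i) := fun i =>
    isAffineHom_π_app (D ⋙ Over.forget S) _ hc' i
  obtain ⟨i₂, M, hM, hML⟩ : ∃ (i : I) (M : (D.obj i).left.IdealSheafData), BlowUp.IsFiniteTypeIdeal M ∧
      M.comap (c.π.app i).left = L :=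
    exists_ideal_stage hc' L (Groth.Agent.Flat2C.TorsIdeal.isFiniteTypeIdeal_of_isEff hL)
  have hP : LocPrin (M.comap (c.π.app i₂).left) := by
    rw [hML]; exact locPrin_of_isEff hL
  obtain ⟨i₃, t₃, h₃⟩ : ∃ (j : I) (t : j ⟶ i₂), LocPrin (M.comap (D.map t).left) :=
    exists_locPrin_stage hc' M hM hP
  have hA : M.comap (c.π.app i₂).left ≤ (IS.comap (D.obj i₂).hom).comap (c.π.app i₂).left := by
    rw [hML, ← Scheme.IdealSheafData.comap_comp]
    refine hLS.trans (le_of_eq ?_)
    congr 1
    exact (Over.w (c.π.app i₂)).symm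
  obtain ⟨i₄, t₄, h₄⟩ : ∃ (j : I) (t : j ⟶ i₂), M.comap (D.map t).left ≤ (IS.comap (D.obj i₂).hom).comap (D.map t).left :=
    K971.LimMod.exists_comap_le hc' M (IS.comap (D.obj i₂).hom) hM hA
  obtain ⟨k, a, b, hab⟩ := IsCofiltered.cospan t₃ t₄
  let N : (D.obj k).left.IdealSheafData := M.comap (D.map (a ≫ t₃)).left
  have hN : N.comap (c.π.app k).left = L := by
    rw [← hML, ← Scheme.IdealSheafData.comap_comp]
    congr 1
    exact congrArg (fun f => f.left) (c.w (a ≫ t₃))
  have hNP : LocPrin N := by
    have e : N = (M.comap (D.map t₃).left).comap (D.map a).left := by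
      rw [← Scheme.IdealSheafData.comap_comp, ← Over.comp_left, ← D.map_comp]
    rw [e]
    exact h₃.comap _
  refine ⟨k, N, hN, ?_, ?_⟩
  · have e : N = (M.comap (D.map t₄).left).comap (D.map b).left := by
      rw [← Scheme.IdealSheafData.comap_comp, ← Over.comp_left, ← D.map_comp, ← hab]
    have e' : IS.comap (D.obj k).hom = ((IS.comap (D.obj i₂).hom).comap (D.map t₄).left).comap (D.map b).left := by
      rw [← Scheme.IdealSheafData.comap_comp, ← Scheme.IdealSheafData.comap_comp, ← Over.comp_left,
        ← D.map_comp, Over.w]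
    rw [e, e']
    exact Scheme.IdealSheafData.comap_mono _ h₄
  · have := h6 k
    have := h4 k
    refine K972.Closure.isEff_of_comap_dominant (((Over.forget S).mapCone c).π.app k) hNP ?_
    change BlowUp.IsEffCartierIdeal (N.comap (c.π.app k).left)
    rw [hN]
    exact hL

end K972.AbsApprox
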