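import Groth.Prelude.Def_W4c6modpairsegaMP
import Groth.Agent.Divis.ColonIdeal
import Groth.Agent.Divis.BlowUpFormal
import Groth.Agent.Divis.CartierCompl
import Groth.Agent.Flat2C.TorsIdeal

/-!
# Effective Cartier ideals and moduli: basic lemmas
-/

set_option autoImplicit false
universe u

open CategoryTheory CategoryTheory.Limits AlgebraicGeometry TopologicalSpace

namespace K972.Basic

open Groth.Agent.Divis.EffCartier Groth.Agent.Divis.IdealComap

variable {X Y Z : Scheme.{u}}

theorem mem_interior {I : X.IdealSheafData} {x : X} : x ∈ ModPair.interior I ↔ x ∉ I.support := Iff.rfl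

theorem interior_comap (J : Y.IdealSheafData) (f : X ⟶ Y) :
    ModPair.interior (J.comap f) = f ⁻¹ᵁ ModPair.interior J := by
  ext x
  change x ∉ (J.comap f).support ↔ ¬ f x ∈ J.support
  rw [Scheme.IdealSheafData.support_comap]
  rfl

theorem interior_mono {I J : X.IdealSheafData} (h : I ≤ J) : ModPair.interior I ≤ ModPair.interior J := by
  intro x hx hx'
  exact hx (Scheme.IdealSheafData.support_antitone h hx')

theorem interior_mul (I J : X.IdealSheafData) :
    ModPair.interior (I * J) = ModPair.interior I ⊓ ModPair.interior J := by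
  ext x
  change x ∉ (I * J).support ↔ (x ∉ I.support ∧ x ∉ J.support)
  rw [Scheme.IdealSheafData.support_mul]
  change ¬ (x ∈ I.support ∨ x ∈ J.support) ↔ _
  tauto

theorem interior_eq_top_iff {I : X.IdealSheafData} : ModPair.interior I = ⊤ ↔ I = ⊤ := by
  rw [← Scheme.IdealSheafData.support_eq_bot_iff]
  constructor
  · intro h
    ext x
    constructor
    · intro hx
      have : x ∈ ModPair.interior I := h ▸ trivial
      exact (this hx).elim
    · intro hx; exact hx.elim
  · intro h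
    ext x
    constructor
    · intro; trivial
    · intro _ hx
      change x ∈ I.support at hx
      rw [h] at hx
      exact hx

/-- The image of a point of the interior under an ambient morphism is in the interior. -/
theorem interior_le_of_isAmbient {I : X.IdealSheafData} {J : Y.IdealSheafData} {f : X ⟶ Y}
    (h : ModPair.IsAmbient I J f) : ModPair.interior I ≤ f ⁻¹ᵁ ModPair.interior J := by
  rw [← interior_comap]; exact interior_mono h

/-- `I` is locally generated by one element. -/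
def LocPrinc (I : X.IdealSheafData) : Prop :=
  ∀ x : X, ∃ U : X.affineOpens, x ∈ U.1 ∧ ∃ f : Γ(X, U.1), I.ideal U = Ideal.span {f}

theorem locPrinc_of_isEff {I : X.IdealSheafData} (hI : BlowUp.IsEffCartierIdeal I) : LocPrinc I := by
  intro x
  obtain ⟨U, hxU, f, -, hf⟩ := hI x
  exact ⟨U, hxU, f, hf⟩

theorem ideal_eq_span_res {I : X.IdealSheafData} {U V : X.affineOpens} (h : V.1 ≤ U.1)
    {f : Γ(X, U.1)} (hf : I.ideal U = Ideal.span {f}) :
    I.ideal V = Ideal.span {(X.presheaf.map (homOfLE h).op).hom f} := by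
  rw [← I.map_ideal (U := V) (V := U) h, hf, Ideal.map_span, Set.image_singleton]
  rfl

theorem LocPrinc.exists_le {I : X.IdealSheafData} (h : LocPrinc I) (x : X) (W : X.Opens) (hW : x ∈ W) :
    ∃ U : X.affineOpens, x ∈ U.1 ∧ U.1 ≤ W ∧ ∃ f : Γ(X, U.1), I.ideal U = Ideal.span {f} := by
  obtain ⟨U, hxU, f, hf⟩ := h x
  obtain ⟨V, hV, hxV, hVW⟩ := exists_isAffineOpen_mem_and_subset (U := W ⊓ U.1) (x := x) ⟨hW, hxU⟩
  exact ⟨⟨V, hV⟩, hxV, fun _ h ↦ (hVW h).1, _, ideal_eq_span_res (V := ⟨V, hV⟩) (fun _ h ↦ (hVW h).2) hf⟩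

theorem LocPrinc.comap {J : Y.IdealSheafData} (h : LocPrinc J) (f : X ⟶ Y) : LocPrinc (J.comap f) := by
  intro x
  obtain ⟨U, hxU, a, ha⟩ := h (f x)
  obtain ⟨U', V, -, hxV, -, hU', e⟩ := exists_affine_le f x ⊤ trivial U.1 hxU
  have e' : V.1 ≤ f ⁻¹ᵁ U.1 := fun _ h ↦ hU' (e h)
  exact ⟨V, hxV, _, by rw [ideal_comap _ f U V e', ha, Ideal.map_span, Set.image_singleton]⟩

theorem LocPrinc.mul {I J : X.IdealSheafData} (hI : LocPrinc I) (hJ : LocPrinc J) : LocPrinc (I * J) := by
  intro x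
  obtain ⟨U, hxU, a, ha⟩ := hI x
  obtain ⟨V, hxV, hVU, b, hb⟩ := hJ.exists_le x U.1 hxU
  refine ⟨V, hxV, (X.presheaf.map (homOfLE hVU).op).hom a * b, ?_⟩
  simp only [Scheme.IdealSheafData.ideal_mul, Pi.mul_apply]
  rw [ideal_eq_span_res hVU ha, hb, Ideal.span_singleton_mul_span_singleton]

/-- A locally principal ideal sheaf which contains an effective Cartier ideal is effective Cartier. -/
theorem isEff_of_le {I J : X.IdealSheafData} (hI : BlowUp.IsEffCartierIdeal I) (hJ : LocPrinc J)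
    (h : I ≤ J) : BlowUp.IsEffCartierIdeal J := by
  intro x
  obtain ⟨U, hxU, f, hf, hIf⟩ := hI x
  obtain ⟨V, hxV, hVU, g, hg⟩ := hJ.exists_le x U.1 hxU
  obtain ⟨f', hf', hIf'⟩ := PrincAt.mono (𝓘 := I) (U := U) (V := V) ⟨f, hf, hIf⟩ hVU
  refine ⟨V, hxV, g, ?_, hg⟩
  have h1 : f' ∈ Ideal.span {g} := by
    rw [← hg]; exact h V (by rw [hIf']; exact Ideal.mem_span_singleton_self f')
  obtain ⟨c, rfl⟩ := Ideal.mem_span_singleton'.1 h1
  exact ((mul_mem_nonZeroDivisors).1 hf').2

theorem isEff_comap_of_isAmbient {I : X.IdealSheafData} {J : Y.IdealSheafData}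
    (hI : BlowUp.IsEffCartierIdeal I) (hJ : BlowUp.IsEffCartierIdeal J) {f : X ⟶ Y}
    (h : ModPair.IsAmbient I J f) : BlowUp.IsEffCartierIdeal (J.comap f) :=
  isEff_of_le hI ((locPrinc_of_isEff hJ).comap f) h

/-- Cancellation of an effective Cartier ideal. -/
theorem le_of_mul_le_mul {I J E : X.IdealSheafData} (hE : BlowUp.IsEffCartierIdeal E)
    (h : I * E ≤ J * E) : I ≤ J := by
  choose U hxU e he hE' using hE
  refine Scheme.IdealSheafData.le_of_iSup_eq_top U
    (top_le_iff.mp fun x _ ↦ TopologicalSpace.Opens.mem_iSup.mpr ⟨x, hxU x⟩) fun x a ha ↦ ?_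
  have h1 : a * e x ∈ (J * E).ideal (U x) := by
    apply h
    rw [Scheme.IdealSheafData.ideal_mul, Pi.mul_apply]
    exact Ideal.mul_mem_mul ha (by rw [hE' x]; exact Ideal.mem_span_singleton_self _)
  rw [Scheme.IdealSheafData.ideal_mul, Pi.mul_apply, hE' x, Ideal.mem_mul_span_singleton] at h1
  obtain ⟨b, hb, hbe⟩ := h1
  rwa [← (mem_nonZeroDivisors_iff_right.1 (he x) (a - b) (by rw [sub_mul, hbe, sub_self]) |>
    sub_eq_zero.1 : a = b)] at hb

theorem eq_of_mul_eq_mul {I J E : X.IdealSheafData} (hE : BlowUp.IsEffCartierIdeal E)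
    (h : I * E = J * E) : I = J :=
  le_antisymm (le_of_mul_le_mul hE h.le) (le_of_mul_le_mul hE h.ge)

theorem isFT_of_isEff {I : X.IdealSheafData} (hI : BlowUp.IsEffCartierIdeal I) :
    BlowUp.IsFiniteTypeIdeal I := Groth.Agent.Flat2C.TorsIdeal.isFiniteTypeIdeal_of_isEff hI

/-- Division by an effective Cartier ideal. -/
theorem exists_mul_eq {J K : X.IdealSheafData} (hK : BlowUp.IsEffCartierIdeal K) (h : J ≤ K) :
    ∃ L : X.IdealSheafData, L * K = J :=
  ⟨_, (mul_comm _ _).trans (Groth.Agent.Divis.ColonIdeal.mul_colonSheaf (isFT_of_isEff hK) hK h)⟩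

end K972.Basic
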