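import Groth.Agent.ModPair.K971.MProd
import Mathlib.RingTheory.Ideal.MinimalPrime.Localization

/-!
# Closures of closed subschemes of the interior
-/

set_option autoImplicit false
universe u

open CategoryTheory CategoryTheory.Limits AlgebraicGeometry TopologicalSpace

namespace K972.Closure

open ModPair K971.Basic K971.MProd Groth.Agent.Divis.EffCartier Groth.Agent.Divis.IdealComap
  Groth.Agent.Flat2C.ClosureIso

variable {X Y Z V S P : Scheme.{u}}

/-- A locally principal ideal sheaf whose pull-back along a quasi-compact schematically dominant morphism is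
effective Cartier is effective Cartier. -/
theorem isEff_of_comap_dominant (j : V ⟶ P) [QuasiCompact j] [IsSchemeTheoreticallyDominant j]
    {J : P.IdealSheafData} (hJ : LocPrin J) (h : BlowUp.IsEffCartierIdeal (J.comap j)) :
    BlowUp.IsEffCartierIdeal J := by
  intro x
  obtain ⟨U, hxU, f, hf⟩ := hJ x
  refine ⟨U, hxU, f, ?_, hf⟩
  rw [mem_nonZeroDivisors_iff_right]
  intro a ha
  apply Scheme.Hom.app_injective j U.1
  rw [map_zero]
  refine V.IsSheaf.section_ext fun v hv ↦ ?_
  obtain ⟨W, hvW, hWU, g, hg, hgW⟩ := exists_princAt h v (j ⁻¹ᵁ U.1) hv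
  refine ⟨W.1, hWU, hvW, ?_⟩
  have h1 : (J.comap j).ideal W = Ideal.span {(j.appLE U.1 W.1 hWU).hom f} := by
    rw [ideal_comap _ j U W hWU, hf, Ideal.map_span, Set.image_singleton]
  have h2 : (j.appLE U.1 W.1 hWU).hom f ∈ nonZeroDivisors Γ(V, W.1) := by
    have h3 : g ∈ Ideal.span {(j.appLE U.1 W.1 hWU).hom f} := by
      rw [← h1, hgW]; exact Ideal.mem_span_singleton_self g
    obtain ⟨c, rfl⟩ := Ideal.mem_span_singleton'.1 h3
    exact (mul_mem_nonZeroDivisors.1 hg).2
  have h4 : (j.appLE U.1 W.1 hWU).hom a = 0 := by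
    apply mem_nonZeroDivisors_iff_right.1 h2
    rw [← map_mul, ha, map_zero]
  rw [map_zero]
  rw [Scheme.Hom.appLE] at h4
  exact h4

/-- Every point is a specialization of a point of the interior. -/
theorem exists_specializes {I : S.IdealSheafData} (hI : BlowUp.IsEffCartierIdeal I) (s : S) :
    ∃ u ∈ interior I, u ⤳ s := by
  obtain ⟨U, hsU, f, hf, hfI⟩ := hI s
  obtain ⟨q, hq, hqp⟩ := Ideal.exists_minimalPrimes_le (I := (⊥ : Ideal Γ(S, U.1)))
    (J := (U.2.primeIdealOf ⟨s, hsU⟩).asIdeal) bot_le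
  have hqprime : q.IsPrime := hq.1.1
  have hfq : f ∉ q := fun hfq ↦
    Set.disjoint_left.1 (Ideal.disjoint_nonZeroDivisors_of_mem_minimalPrimes hq) hfq hf
  let Q : Spec Γ(S, U.1) := ⟨q, hqprime⟩
  have hsp : Q ⤳ U.2.primeIdealOf ⟨s, hsU⟩ := (PrimeSpectrum.le_iff_specializes _ _).1 hqp
  have hsp' := hsp.map U.2.fromSpec.continuous
  rw [U.2.fromSpec_primeIdealOf] at hsp'
  refine ⟨U.2.fromSpec Q, ?_, hsp'⟩
  have hmem : U.2.fromSpec Q ∈ U.1 := by
    have : U.2.fromSpec Q ∈ Set.range U.2.fromSpec := ⟨Q, rfl⟩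
    rwa [U.2.range_fromSpec] at this
  change U.2.fromSpec Q ∉ I.support
  rw [Scheme.IdealSheafData.mem_support_iff_of_mem hmem, hfI, Scheme.zeroLocus_span,
    Scheme.zeroLocus_singleton]
  have h5 : Q ∈ U.2.fromSpec ⁻¹ᵁ S.basicOpen f := by
    rw [U.2.fromSpec_preimage_basicOpen]
    exact hfq
  intro h6
  exact h6 h5

/-- The schematic closure in `S` of a closed subscheme of an open `U`. -/
theorem isOpenImmersion_toImage {U : S.Opens} [QuasiCompact U.ι] (g : V ⟶ (U : Scheme.{u})) [IsClosedImmersion g] :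
    IsOpenImmersion (g ≫ U.ι).toImage ∧
      Set.range (g ≫ U.ι).toImage = (g ≫ U.ι).imageι ⁻¹' (U : Set S) := by
  set j := g ≫ U.ι with hj
  have hr : Set.range j.toImage ⊆ Set.range (j.imageι ⁻¹ᵁ U).ι := by
    rw [Scheme.Opens.range_ι]
    rintro _ ⟨v, rfl⟩
    change j.imageι (j.toImage v) ∈ U
    rw [← Scheme.Hom.comp_apply, j.toImage_imageι, hj]
    exact (g v).2
  let t : V ⟶ (j.imageι ⁻¹ᵁ U : Scheme.Opens _) := IsOpenImmersion.lift (j.imageι ⁻¹ᵁ U).ι j.toImage hr
  have ht : t ≫ (j.imageι ⁻¹ᵁ U).ι = j.toImage := IsOpenImmersion.lift_fac _ _ _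
  have hdom : IsSchemeTheoreticallyDominant t := by
    have := isSchemeTheoreticallyDominant_toImage j
    exact IsSchemeTheoreticallyDominant.of_isPullback
      (IsOpenImmersion.isPullback_lift_id j.toImage (j.imageι ⁻¹ᵁ U).ι hr).flip
  have hcomp : t ≫ (j.imageι ∣_ U) = g := by
    rw [← cancel_mono U.ι, Category.assoc, morphismRestrict_ι, ← Category.assoc, ht, j.toImage_imageι]
  have hcl : IsClosedImmersion (t ≫ (j.imageι ∣_ U)) := by rw [hcomp]; infer_instance
  have hcl : IsClosedImmersion t := IsClosedImmersion.of_comp t (j.imageι ∣_ U)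
  have : IsIso t := IsClosedImmersion.isIso_iff_ker_eq_bot.2 t.ker_eq_bot
  constructor
  · rw [← ht]; infer_instance
  · rw [← ht]
    ext x
    constructor
    · rintro ⟨v, rfl⟩
      rw [Scheme.Hom.comp_apply]
      exact (t v).2
    · intro hx
      obtain ⟨v, hv⟩ := (ConcreteCategory.bijective_of_isIso t.base).2 ⟨x, hx⟩
      refine ⟨v, ?_⟩
      rw [Scheme.Hom.comp_apply]
      change (j.imageι ⁻¹ᵁ U).ι (t.base v) = x
      rw [hv]; rfl

/-- The modulus restricted to the schematic closure of a closed subscheme of the interior. -/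
theorem isEff_comap_closure {I : S.IdealSheafData} (hI : LocPrin I) (g : V ⟶ (interior I : Scheme.{u}))
    [QuasiCompact g] :
    BlowUp.IsEffCartierIdeal (I.comap (g ≫ (interior I).ι).imageι) := by
  have := hI.isAffineHom
  have := isSchemeTheoreticallyDominant_toImage (g ≫ (interior I).ι)
  apply isEff_of_comap_dominant (g ≫ (interior I).ι).toImage (hI.comap _)
  rw [← Scheme.IdealSheafData.comap_comp, Scheme.Hom.toImage_imageι, Scheme.IdealSheafData.comap_comp]
  have : I.comap (interior I).ι = ⊤ := by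
    rw [← interior_eq_top_iff, interior_comap, Scheme.Opens.ι_preimage_self]
  rw [this, Scheme.IdealSheafData.comap_top]
  exact isEff_top

end K972.Closure
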