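import Mathlib.CategoryTheory.Localization.FiniteProducts
import Mathlib.CategoryTheory.Localization.Opposite
import Mathlib.CategoryTheory.Limits.Shapes.Opposites.Products
import Mathlib.CategoryTheory.Limits.Preserves.Opposites
import Mathlib.CategoryTheory.MorphismProperty.Limits

/-!
# Coproducts in localizations
-/

set_option autoImplicit false

open CategoryTheory CategoryTheory.Limits Opposite

universe v₁ v₂ u₁ u₂ w

namespace K972.LocCoprod

variable {C : Type u₁} [Category.{v₁} C] {J : Type w}

/-- A product in the opposite category is a coproduct. -/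
noncomputable def isColimitOfOp {X : Discrete J ⥤ Cᵒᵖ} {c : Cone X} (h : IsLimit c) :
    IsColimit (Cofan.mk (f := fun j ↦ (X.obj ⟨j⟩).unop) c.pt.unop (fun j ↦ (c.π.app ⟨j⟩).unop)) :=
  Cofan.IsColimit.mk _ (fun s ↦ (h.lift ⟨op s.pt, Discrete.natTrans fun j ↦ (s.inj j.as).op⟩).unop)
    (fun s j ↦ by
      apply Quiver.Hom.op_inj
      exact h.fac ⟨op s.pt, Discrete.natTrans fun j ↦ (s.inj j.as).op⟩ ⟨j⟩)
    (fun s m hm ↦ by
      apply Quiver.Hom.op_inj
      refine h.uniq ⟨op s.pt, Discrete.natTrans fun j ↦ (s.inj j.as).op⟩ m.op ?_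
      rintro ⟨j⟩
      apply Quiver.Hom.unop_inj
      exact hm j)

instance op_stable (W : MorphismProperty C) [W.IsStableUnderCoproductsOfShape J] :
    W.op.IsStableUnderProductsOfShape J where
  condition X₁ X₂ c₁ c₂ h₁ h₂ f hf φ hφ := by
    refine MorphismProperty.IsStableUnderColimitsOfShape.condition (W := W) (J := Discrete J)
      _ _ _ _ (isColimitOfOp h₂) (isColimitOfOp h₁)
      (Discrete.natTrans fun j ↦ (f.app j).unop) (fun j ↦ hf j) φ.unop ?_
    rintro ⟨j⟩
    apply Quiver.Hom.op_inj
    exact hφ ⟨j⟩

theorem stable_of_equiv {J' : Type*} (e : J ≃ J') (W : MorphismProperty C)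
    [W.IsStableUnderCoproductsOfShape J] : W.IsStableUnderCoproductsOfShape J' := by
  rw [MorphismProperty.IsStableUnderCoproductsOfShape,
    MorphismProperty.isStableUnderColimitsOfShape_iff_colimitsOfShape_le,
    ← W.colimitsOfShape_eq_of_equivalence (Discrete.equivalence e)]
  exact W.colimitsOfShape_le

variable {D : Type u₂} [Category.{v₂} D] (L : C ⥤ D) (W : MorphismProperty C) [L.IsLocalization W]
  [W.ContainsIdentities] (K : Type) [Finite K] [HasCoproductsOfShape K C] [W.IsStableUnderCoproductsOfShape K]

include L W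

theorem hasCoproductsOfShape : HasCoproductsOfShape K D := by
  have : HasProductsOfShape K Cᵒᵖ := inferInstance
  have : W.op.ContainsIdentities := inferInstance
  have : HasProductsOfShape K Dᵒᵖ := Localization.hasProductsOfShape L.op W.op K
  exact hasCoproductsOfShape_of_opposite K

theorem preserves : PreservesColimitsOfShape (Discrete K) L := by
  have : HasProductsOfShape K Cᵒᵖ := inferInstance
  have : W.op.ContainsIdentities := inferInstance
  have h : PreservesLimitsOfShape (Discrete K) L.op := Localization.preservesProductsOfShape L.op W.op K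
  have : PreservesLimitsOfShape (Discrete K)ᵒᵖ L.op :=
    preservesLimitsOfShape_of_equiv (Discrete.opposite K).symm L.op
  exact preservesColimitsOfShape_of_op (Discrete K) L

end K972.LocCoprod
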