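import Groth.Agent.ModPair.K971.Basic
import Mathlib.AlgebraicGeometry.ZariskisMainTheorem
import Mathlib.AlgebraicGeometry.Morphisms.Flat
import Mathlib.RingTheory.Flat.TorsionFree
import Mathlib.RingTheory.Valuation.ValuationSubring
import Mathlib.RingTheory.Ideal.Quotient.Operations
import Mathlib.RingTheory.RingHom.Flat

/-!
# Schemes proper over the spectrum of a semi-valuation ring
-/

set_option autoImplicit false
universe u

open CategoryTheory CategoryTheory.Limits AlgebraicGeometry TopologicalSpace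
open scoped TensorProduct

namespace K972.SemiVal

open ModPair K971.Basic Groth.Agent.Divis.EffCartier Groth.Agent.Divis.IdealComap

section Algebra

variable {A R B : Type u} [CommRing A] [CommRing R] [CommRing B] [Algebra A R] [Algebra A B]

/-- For `A ⟶ R` surjective, the kernel of `B ⟶ R ⊗ B` is `ker (A ⟶ R) B`. -/
theorem mem_map_ker_of_tmul (hsurj : Function.Surjective (algebraMap A R)) (b : B)
    (h : (1 : R) ⊗ₜ[A] b = 0) : b ∈ (RingHom.ker (algebraMap A R)).map (algebraMap A B) := by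
  set J := (RingHom.ker (algebraMap A R)).map (algebraMap A B) with hJ
  let s : R →ₐ[A] B ⧸ J :=
    (Ideal.Quotient.liftₐ (RingHom.ker (Algebra.ofId A R)) (Algebra.ofId A (B ⧸ J)) (by
      intro a ha
      change algebraMap A (B ⧸ J) a = 0
      rw [IsScalarTower.algebraMap_apply A B (B ⧸ J)]
      exact Ideal.Quotient.eq_zero_iff_mem.2 (Ideal.mem_map_of_mem _ ha))).comp
      (Ideal.quotientKerAlgEquivOfSurjective (f := Algebra.ofId A R) hsurj).symm.toAlgHom
  have h1 := congrArg (Algebra.TensorProduct.productMap s (Ideal.Quotient.mkₐ A J)) h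
  rw [map_zero, Algebra.TensorProduct.productMap_apply_tmul, map_one, one_mul] at h1
  exact Ideal.Quotient.eq_zero_iff_mem.1 h1

/-- The main algebraic computation. -/
theorem flat_tensor [IsDomain R] [ValuationRing R] (hsurj : Function.Surjective (algebraMap A R)) (f : A)
    (hm : ∀ m, algebraMap A R m = 0 → ∃ m', algebraMap A R m' = 0 ∧ m = f * m')
    (hf : ∀ r : R, r ≠ 0 → ∃ (n : ℕ) (a : R), (algebraMap A R f) ^ n = a * r)
    (hB : algebraMap A B f ∈ nonZeroDivisors B) : Module.Flat R (R ⊗[A] B) := by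
  rw [Module.Flat.flat_iff_torsion_eq_bot_of_isBezout, eq_bot_iff]
  intro t ht
  obtain ⟨⟨r, hr⟩, hrt⟩ := (Submodule.mem_torsion_iff t).1 ht
  have hrt' : r • t = 0 := hrt
  have hr0 : r ≠ 0 := nonZeroDivisors.ne_zero hr
  obtain ⟨b, rfl⟩ : ∃ b : B, (1 : R) ⊗ₜ[A] b = t := by
    exact TensorProduct.mk_surjective A B R hsurj t
  obtain ⟨n, a, hn⟩ := hf r hr0
  have h1 : (1 : R) ⊗ₜ[A] (algebraMap A B f ^ n * b) = 0 := by
    have h2 : (algebraMap A R f) ^ n • ((1 : R) ⊗ₜ[A] b) = 0 := by
      rw [hn, mul_smul, hrt', smul_zero]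
    rw [← h2, ← map_pow, ← map_pow, ← Algebra.smul_def, TensorProduct.tmul_smul,
      algebraMap_smul]
  have h3 := mem_map_ker_of_tmul hsurj _ h1
  set J := (RingHom.ker (algebraMap A R)).map (algebraMap A B) with hJ
  have hJf : J ≤ Ideal.span {algebraMap A B f} * J := by
    rw [hJ, ← Set.image_singleton, ← Ideal.map_span, ← Ideal.map_mul]
    apply Ideal.map_mono
    intro m hmm
    obtain ⟨m', hm', rfl⟩ := hm m hmm
    exact Ideal.mul_mem_mul (Ideal.mem_span_singleton_self f) hm'
  have key : ∀ (n : ℕ) (c : B), algebraMap A B f ^ n * c ∈ J → c ∈ J := by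
    intro n
    induction n with
    | zero => intro c hc; simpa using hc
    | succ n ih =>
      intro c hc
      apply ih
      have h4 := hJf hc
      rw [Ideal.mem_span_singleton_mul] at h4
      obtain ⟨y, hy, hyc⟩ := h4
      have h5 : y = algebraMap A B f ^ n * c := by
        have := mem_nonZeroDivisors_iff_right.1 hB (y - algebraMap A B f ^ n * c) (by
          rw [sub_mul, sub_eq_zero, mul_comm y, hyc]; ring)
        exact sub_eq_zero.1 this
      rw [← h5]; exact hy
  have h6 := key n b h3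
  change (1 : R) ⊗ₜ[A] b = 0
  have h7 : ∀ c ∈ J, (1 : R) ⊗ₜ[A] c = 0 := by
    intro c hc
    refine Submodule.span_induction (p := fun c _ ↦ (1 : R) ⊗ₜ[A] c = 0) ?_ ?_ ?_ ?_ hc
    · rintro _ ⟨a, ha, rfl⟩
      rw [Algebra.algebraMap_eq_smul_one, TensorProduct.tmul_smul, TensorProduct.smul_tmul',
        Algebra.smul_def, (show algebraMap A R a = 0 from ha), zero_mul, TensorProduct.zero_tmul]
    · exact TensorProduct.tmul_zero _ _
    · intro x y _ _ hx hy
      rw [TensorProduct.tmul_add, hx, hy, add_zero]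
    · intro x y _ hy
      have := congrArg (fun z : R ⊗[A] B ↦ ((1 : R) ⊗ₜ[A] x) * z) hy
      simpa using this
  exact h7 b h6

end Algebra

/-- The base change along a morphism with image in `U` is a base change of the restriction over `U`. -/
theorem of_restrict (P : MorphismProperty Scheme.{u}) [P.IsStableUnderBaseChange] {X S T : Scheme.{u}}
    (q : X ⟶ S) (U : S.Opens) (h : P (q ∣_ U)) (g : T ⟶ S) (hg : Set.range g ⊆ (U : Set S)) :
    P (pullback.snd q g) := by
  have H1 := IsPullback.of_hasPullback q g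
  have H2 := (isPullback_morphismRestrict q U).flip
  have hr : Set.range g ⊆ Set.range U.ι := by rw [Scheme.Opens.range_ι]; exact hg
  have hfac : IsOpenImmersion.lift U.ι g hr ≫ U.ι = g := IsOpenImmersion.lift_fac _ _ _
  have hc : pullback.fst q g ≫ q = (pullback.snd q g ≫ IsOpenImmersion.lift U.ι g hr) ≫ U.ι := by
    rw [Category.assoc, hfac]; exact pullback.condition
  have H3 : IsPullback (H2.lift _ _ hc) (pullback.snd q g) (q ∣_ U) (IsOpenImmersion.lift U.ι g hr) := by
    refine IsPullback.of_right (h₁₂ := (q ⁻¹ᵁ U).ι) (h₂₂ := U.ι) (v₁₃ := q) ?_ (H2.lift_snd _ _ hc) H2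
    rw [H2.lift_fst, hfac]
    exact H1
  exact P.of_isPullback H3 h

/-- Generators of an effective Cartier ideal are nonzerodivisors. -/
theorem mem_nonZeroDivisors_of_isEff {X : Scheme.{u}} {I : X.IdealSheafData} (hI : BlowUp.IsEffCartierIdeal I)
    {V : X.affineOpens} {a : Γ(X, V.1)} (h : I.ideal V = Ideal.span {a}) : a ∈ nonZeroDivisors Γ(X, V.1) := by
  rw [mem_nonZeroDivisors_iff_right]
  intro b hb
  refine X.IsSheaf.section_ext fun v hv ↦ ?_
  obtain ⟨W, hvW, hWV, g, hg, hgW⟩ := exists_princAt hI v V.1 hv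
  refine ⟨W.1, hWV, hvW, ?_⟩
  have h1 : I.ideal W = Ideal.span {(X.presheaf.map (homOfLE hWV).op).hom a} := by
    rw [← I.map_ideal (U := W) (V := V) hWV, h, Ideal.map_span, Set.image_singleton]
    rfl
  have h2 : (X.presheaf.map (homOfLE hWV).op).hom a ∈ nonZeroDivisors Γ(X, W.1) := by
    have h3 : g ∈ Ideal.span {(X.presheaf.map (homOfLE hWV).op).hom a} := by
      rw [← h1, hgW]; exact Ideal.mem_span_singleton_self g
    obtain ⟨c, rfl⟩ := Ideal.mem_span_singleton'.1 h3
    exact (mul_mem_nonZeroDivisors.1 hg).2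
  rw [map_zero]
  apply mem_nonZeroDivisors_iff_right.1 h2
  change (X.presheaf.map (homOfLE hWV).op).hom b * _ = 0
  rw [← map_mul, hb, map_zero]

/-- The ideal sheaf of `V(f)` in `Spec A`, at the top open. -/
theorem ker_ideal_top {A : CommRingCat.{u}} (f : A) :
    (Spec.map (CommRingCat.ofHom (Ideal.Quotient.mk (Ideal.span {f})))).ker.ideal
      ⟨⊤, isAffineOpen_top _⟩ = Ideal.span {(Scheme.ΓSpecIso A).inv.hom f} := by
  rw [Scheme.Hom.ker_apply]
  ext x
  have h1 : (Spec.map (CommRingCat.ofHom (Ideal.Quotient.mk (Ideal.span {f})))).appTop =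
      (Scheme.ΓSpecIso A).hom ≫ CommRingCat.ofHom (Ideal.Quotient.mk (Ideal.span {f})) ≫
        (Scheme.ΓSpecIso _).inv := by
    rw [← Scheme.ΓSpecIso_naturality_assoc, Iso.hom_inv_id, Category.comp_id]
  have h2 : x ∈ RingHom.ker (Spec.map (CommRingCat.ofHom (Ideal.Quotient.mk (Ideal.span {f})))).appTop.hom ↔
      (Scheme.ΓSpecIso A).hom.hom x ∈ Ideal.span {f} := by
    rw [RingHom.mem_ker, h1]
    change (Scheme.ΓSpecIso (CommRingCat.of (A ⧸ Ideal.span {f}))).inv.hom
      (Ideal.Quotient.mk (Ideal.span {f}) ((Scheme.ΓSpecIso A).hom.hom x)) = 0 ↔ _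
    rw [← Ideal.Quotient.eq_zero_iff_mem]
    constructor
    · intro h
      have := congrArg (Scheme.ΓSpecIso (CommRingCat.of (A ⧸ Ideal.span {f}))).hom.hom h
      rw [map_zero] at this
      simpa using this
    · intro h; rw [h, map_zero]
  refine h2.trans ?_
  rw [Ideal.mem_span_singleton, Ideal.mem_span_singleton]
  constructor
  · rintro ⟨c, hc⟩
    refine ⟨(Scheme.ΓSpecIso A).inv.hom c, ?_⟩
    rw [← map_mul, ← hc]
    simp
  · rintro ⟨c, rfl⟩
    rw [map_mul]
    exact ⟨(Scheme.ΓSpecIso A).hom.hom c, by simp⟩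

/-- If the pull-back of `V(f)` to `Spec B` is effective Cartier, `f` is a nonzerodivisor of `B`. -/
theorem mem_nonZeroDivisors_of_comap {A B : CommRingCat.{u}} (f : A) (φ : A ⟶ B)
    (h : BlowUp.IsEffCartierIdeal
      ((Spec.map (CommRingCat.ofHom (Ideal.Quotient.mk (Ideal.span {f})))).ker.comap (Spec.map φ))) :
    φ.hom f ∈ nonZeroDivisors B := by
  have h1 := ideal_comap (Spec.map (CommRingCat.ofHom (Ideal.Quotient.mk (Ideal.span {f})))).ker
    (Spec.map φ) ⟨⊤, isAffineOpen_top _⟩ ⟨⊤, isAffineOpen_top _⟩ le_rfl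
  rw [ker_ideal_top, Ideal.map_span, Set.image_singleton] at h1
  have h2 := mem_nonZeroDivisors_of_isEff h h1
  have h3 : ((Spec.map φ).appLE ⊤ ⊤ le_rfl).hom ((Scheme.ΓSpecIso A).inv.hom f) =
      (Scheme.ΓSpecIso B).inv.hom (φ.hom f) := by
    have h4 : (Scheme.ΓSpecIso A).inv ≫ (Spec.map φ).appTop = φ ≫ (Scheme.ΓSpecIso B).inv :=
      (Scheme.ΓSpecIso_inv_naturality φ).symm
    have h5 : (Spec.map φ).appLE ⊤ ⊤ le_rfl = (Spec.map φ).appTop := by
      rw [Scheme.Hom.appTop, Scheme.Hom.app_eq_appLE]; rfl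
    rw [h5]
    exact congrArg (fun k : A ⟶ Γ(Spec B, ⊤) ↦ k.hom f) h4
  rw [h3] at h2
  rw [mem_nonZeroDivisors_iff_right] at h2 ⊢
  intro x hx
  have := h2 ((Scheme.ΓSpecIso B).inv.hom x) (by rw [← map_mul, hx, map_zero])
  have h6 := congrArg (Scheme.ΓSpecIso B).hom.hom this
  rw [map_zero] at h6
  simpa using h6

/-- Flatness of the restriction to the closed subscheme `Spec R` of `Spec A`, affine case. -/
theorem flat_pullback_snd_affine {A R : Type u} [CommRing A] [CommRing R] [IsDomain R] [ValuationRing R]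
    [Algebra A R] (hsurj : Function.Surjective (algebraMap A R)) (f : A)
    (hm : ∀ m, algebraMap A R m = 0 → ∃ m', algebraMap A R m' = 0 ∧ m = f * m')
    (hf : ∀ r : R, r ≠ 0 → ∃ (n : ℕ) (a : R), (algebraMap A R f) ^ n = a * r)
    {B : CommRingCat.{u}} (q : Spec B ⟶ Spec (CommRingCat.of A))
    (hq : BlowUp.IsEffCartierIdeal
      ((Spec.map (CommRingCat.ofHom (Ideal.Quotient.mk (Ideal.span {f})))).ker.comap q)) :
    Flat (pullback.snd q (Spec.map (CommRingCat.ofHom (algebraMap A R)))) := by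
  obtain ⟨φ, rfl⟩ := Spec.map_surjective q
  have h3 := mem_nonZeroDivisors_of_comap (A := CommRingCat.of A) f φ hq
  let : Algebra A B := φ.hom.toAlgebra
  have h4 : Module.Flat R (R ⊗[A] B) := flat_tensor hsurj f hm hf h3
  have h5 : pullback.snd (Spec.map φ) (Spec.map (CommRingCat.ofHom (algebraMap A R))) =
      (pullbackSymmetry _ _).hom ≫ (pullbackSpecIso A R B).hom ≫
        Spec.map (CommRingCat.ofHom (algebraMap R (R ⊗[A] B))) := by
    rw [pullbackSpecIso_hom_fst', pullbackSymmetry_hom_comp_fst]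
    rfl
  rw [h5, MorphismProperty.cancel_left_of_respectsIso @Flat, MorphismProperty.cancel_left_of_respectsIso @Flat,
    Flat.SpecMap_iff, CommRingCat.hom_ofHom, RingHom.flat_algebraMap_iff]
  exact h4

/-- Flatness of the restriction to the closed subscheme `Spec R` of `Spec A`. -/
theorem flat_pullback_snd {A R : Type u} [CommRing A] [CommRing R] [IsDomain R] [ValuationRing R] [Algebra A R]
    (hsurj : Function.Surjective (algebraMap A R)) (f : A)
    (hm : ∀ m, algebraMap A R m = 0 → ∃ m', algebraMap A R m' = 0 ∧ m = f * m')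
    (hf : ∀ r : R, r ≠ 0 → ∃ (n : ℕ) (a : R), (algebraMap A R f) ^ n = a * r)
    {Q : Scheme.{u}} (q : Q ⟶ Spec (CommRingCat.of A))
    (hq : BlowUp.IsEffCartierIdeal
      ((Spec.map (CommRingCat.ofHom (Ideal.Quotient.mk (Ideal.span {f})))).ker.comap q)) :
    Flat (pullback.snd q (Spec.map (CommRingCat.ofHom (algebraMap A R)))) := by
  rw [IsZariskiLocalAtSource.iff_of_openCover (P := @Flat)
    (Scheme.Pullback.openCoverOfLeft Q.affineCover q (Spec.map (CommRingCat.ofHom (algebraMap A R))))]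
  intro (i : Q.affineCover.I₀)
  have h1 : (Scheme.Pullback.openCoverOfLeft Q.affineCover q
      (Spec.map (CommRingCat.ofHom (algebraMap A R)))).f i ≫
      pullback.snd q (Spec.map (CommRingCat.ofHom (algebraMap A R))) =
      pullback.snd (Q.affineCover.f i ≫ q) (Spec.map (CommRingCat.ofHom (algebraMap A R))) :=
    (pullback.lift_snd _ _ _).trans (Category.comp_id _)
  rw [h1]
  refine flat_pullback_snd_affine hsurj f hm hf (Q.affineCover.f i ≫ q) ?_
  rw [Scheme.IdealSheafData.comap_comp]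
  have h2 : IsOpenImmersion (Q.affineCover.f i) := Q.affineCover.map_prop i
  exact isEff_comap_flat hq (Q.affineCover.f i)

theorem mem_interior_iff {A : CommRingCat.{u}} (f : A) (x : Spec A) :
    x ∈ interior (Spec.map (CommRingCat.ofHom (Ideal.Quotient.mk (Ideal.span {f})))).ker ↔ f ∉ x.asIdeal := by
  have h1 := Groth.Agent.Divis.CartierCompl.compl_support_inf_eq_basicOpen _ _ _ (ker_ideal_top f)
  have h2 : interior (Spec.map (CommRingCat.ofHom (Ideal.Quotient.mk (Ideal.span {f})))).ker =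
      (Spec A).basicOpen ((Scheme.ΓSpecIso A).inv.hom f) := by
    refine Eq.trans ?_ h1
    exact (inf_top_eq _).symm
  rw [h2]
  have h3 : (Spec A).basicOpen ((Scheme.ΓSpecIso A).inv.hom f) = PrimeSpectrum.basicOpen f :=
    basicOpen_eq_of_affine f
  rw [h3]
  exact PrimeSpectrum.mem_basicOpen f x

/-- finiteness from finiteness over an open and over a closed subscheme covering the base -/
theorem isFinite_of_restrict {Q S T : Scheme.{u}} (q : Q ⟶ S) [IsProper q] (U : S.Opens)
    [IsFinite (q ∣_ U)] (i : T ⟶ S) [IsFinite (pullback.snd q i)] (hU : ∀ x : S, x ∉ U → x ∈ Set.range i) :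
    IsFinite q := by
  have : LocallyQuasiFinite q := by
    apply LocallyQuasiFinite.of_finite_preimage_singleton
    intro x
    by_cases hx : x ∈ U
    · have h1 := (q ∣_ U).finite_preimage_singleton ⟨x, hx⟩
      refine (h1.image (q ⁻¹ᵁ U).ι).subset ?_
      intro z hz
      have hz' : q z = x := hz
      have hzU : z ∈ q ⁻¹ᵁ U := by change q z ∈ U; rw [hz']; exact hx
      refine ⟨⟨z, hzU⟩, ?_, rfl⟩
      change (q ∣_ U) ⟨z, hzU⟩ = ⟨x, hx⟩
      apply Subtype.ext
      have h2 := congrArg (fun k : ((q ⁻¹ᵁ U : Q.Opens) : Scheme.{u}) ⟶ S ↦ k ⟨z, hzU⟩) (morphismRestrict_ι q U)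
      exact h2.trans hz'
    · obtain ⟨y, hy⟩ := hU x hx
      have h1 := (pullback.snd q i).finite_preimage_singleton y
      refine (h1.image (pullback.fst q i)).subset ?_
      intro z hz
      have hz' : q z = x := hz
      obtain ⟨w, hw1, hw2⟩ := Scheme.Pullback.exists_preimage_pullback (f := q) (g := i) z y (hz'.trans hy.symm)
      exact ⟨w, hw2, hw1⟩
  exact IsFinite.of_isProper_of_locallyQuasiFinite q

end K972.SemiVal
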