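import Groth.Agent.ModPair.K971.Coprod
import Groth.Agent.ModPair.K971.PairCat
import Groth.Agent.ModPair.K972.LocCoprod
import Groth.Agent.ModPair.K972.SemiVal

/-!
# Abstract admissible blow-ups are stable under coproducts
-/

set_option autoImplicit false
universe u

open CategoryTheory CategoryTheory.Limits AlgebraicGeometry TopologicalSpace

namespace K972.CoprodAdm

open ModPair K971.Basic K971.MProd K971.Coprod K971.PairCat

/-- `SemiVal.of_restrict` for a general pull-back square. -/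
theorem of_restrict (P : MorphismProperty Scheme.{u}) [P.IsStableUnderBaseChange] {W X S T : Scheme.{u}}
    {p₁ : W ⟶ X} {p₂ : W ⟶ T} {q : X ⟶ S} {g : T ⟶ S} (H : IsPullback p₁ p₂ q g) (U : S.Opens)
    (h : P (q ∣_ U)) (hg : Set.range g ⊆ (U : Set S)) : P p₂ := by
  have h1 := SemiVal.of_restrict P q U h g hg
  rw [← H.isoPullback_hom_snd]
  have : P.RespectsIso := inferInstance
  exact (MorphismProperty.cancel_left_of_respectsIso P _ _).2 h1

theorem isPullback_sigma {σ : Type u} (B N : σ → Scheme.{u}) (f : ∀ i, N i ⟶ B i) (i : σ) :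
    IsPullback (Sigma.ι N i) (f i) (Limits.Sigma.map f) (Sigma.ι B i) := by
  have : IsOpenImmersion (Sigma.ι N i) := inferInstanceAs (IsOpenImmersion ((sigmaOpenCover N).f i))
  have : IsOpenImmersion (Sigma.ι B i) := inferInstanceAs (IsOpenImmersion ((sigmaOpenCover B).f i))
  refine ⟨⟨by simp⟩, ⟨PullbackCone.isLimitAux' _ fun s => ?_⟩⟩
  have hr : Set.range s.fst ⊆ Set.range (Sigma.ι N i) := by
    rintro _ ⟨x, rfl⟩
    obtain ⟨k, y, hy⟩ := (sigmaOpenCover N).exists_eq (s.fst x)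
    change N k at y
    change Sigma.ι N k y = _ at hy
    have h1 : Sigma.ι B k (f k y) = Sigma.ι B i (s.snd x) := by
      rw [← Scheme.Hom.comp_apply, ← Scheme.Hom.comp_apply, ← s.condition,
        Scheme.Hom.comp_apply s.fst, ← hy, ← Scheme.Hom.comp_apply]
      congr 1
      simp
    obtain ⟨rfl, -⟩ := Sigma.mk.inj_iff.1 ((sigmaι_eq_iff B k i _ _).1 h1)
    exact ⟨y, hy⟩
  let l := IsOpenImmersion.lift (Sigma.ι N i) s.fst hr
  have hl : l ≫ Sigma.ι N i = s.fst := IsOpenImmersion.lift_fac (Sigma.ι N i) s.fst hr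
  refine ⟨l, hl, ?_, ?_⟩
  · have h2 : (l ≫ f i) ≫ Sigma.ι B i = s.snd ≫ Sigma.ι B i := by
      rw [← s.condition, Category.assoc, ← hl, Category.assoc]
      simp
    exact (cancel_mono (Sigma.ι B i)).1 h2
  · intro m h1 _
    exact (cancel_mono (Sigma.ι N i)).1 (h1.trans hl.symm)

theorem isIso_snd_aux {X Y X' Y' T : Scheme.{u}} {α : X ⟶ Y} {U : Y.Opens} {p : X' ⟶ X} {f : X' ⟶ Y'} {q : Y' ⟶ Y}
    (hp : IsPullback p f α q) (hf : IsIso (f ∣_ (q ⁻¹ᵁ U))) (a : T ⟶ U) (g : T ⟶ Y') (hc : a ≫ U.ι = g ≫ q) :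
    IsIso (pullback.snd (α ∣_ U) a) := by
  have H1 := (IsPullback.of_hasPullback (α ∣_ U) a).flip.paste_vert (isPullback_morphismRestrict α U)
  have H2 := H1.flip
  have hw := H2.w
  have H3 : IsPullback (hp.lift (pullback.fst (α ∣_ U) a ≫ (α ⁻¹ᵁ U).ι)
      (pullback.snd (α ∣_ U) a ≫ g) (by rw [Category.assoc (pullback.snd _ _), ← hc]; exact hw))
      (pullback.snd (α ∣_ U) a) f g := by
    refine IsPullback.of_right (h₁₂ := p) (v₁₃ := α) (h₂₂ := q) ?_ (by simp) hp
    rw [IsPullback.lift_fst, ← hc]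
    exact H2
  refine of_restrict (MorphismProperty.isomorphisms Scheme.{u}) H3 (q ⁻¹ᵁ U) hf ?_
  rintro _ ⟨x, rfl⟩
  change q (g x) ∈ U
  rw [← Scheme.Hom.comp_apply, ← hc, Scheme.Hom.comp_apply]
  exact (a x).2

/-- If the base changes of `α` over the members of an open cover are isomorphisms over the preimages of `U`, then
`α` is an isomorphism over `U`. -/
theorem isIso_restrict_of_cover {X Y : Scheme.{u}} (α : X ⟶ Y) (U : Y.Opens) (𝒰 : Scheme.OpenCover.{u} Y)
    (X' : 𝒰.I₀ → Scheme.{u}) (p : ∀ i, X' i ⟶ X) (f : ∀ i, X' i ⟶ 𝒰.X i)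
    (hp : ∀ i, IsPullback (p i) (f i) α (𝒰.f i)) (hf : ∀ i, IsIso (f i ∣_ (𝒰.f i ⁻¹ᵁ U))) :
    IsIso (α ∣_ U) := by
  change MorphismProperty.isomorphisms Scheme.{u} (α ∣_ U)
  refine IsZariskiLocalAtTarget.of_openCover (P := MorphismProperty.isomorphisms Scheme.{u})
    (𝒰.pullback₁ U.ι) fun i ↦ ?_
  exact isIso_snd_aux (hp i) (hf i) _ (pullback.snd U.ι (𝒰.f i)) pullback.condition

/-- The coproduct of a family of morphisms of modulus pairs. -/
noncomputable def sigmaMap {σ : Type u} {P Q : σ → Pair.{u}} (f : ∀ i, P i ⟶ Q i) : sigmaPair P ⟶ sigmaPair Q where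
  hom := Limits.Sigma.map fun i => (f i).hom
  cond := by
    refine isAmbient_of_sigma _ _ _ fun i => ?_
    have : Sigma.ι (fun i => (P i).total) i ≫ (Limits.Sigma.map fun i => (f i).hom) =
      (f i ≫ sigmaι Q i).hom := Sigma.ι_map _ _
    exact this.symm ▸ (f i ≫ sigmaι Q i).cond

lemma sigmaι_map {σ : Type u} {P Q : σ → Pair.{u}} (f : ∀ i, P i ⟶ Q i) (i : σ) :
    sigmaι P i ≫ sigmaMap f = f i ≫ sigmaι Q i := by
  apply Pair.Hom.ext
  exact Sigma.ι_map (f := fun i => (P i).total) (g := fun i => (Q i).total) (fun i => (f i).hom) i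

theorem isAdmBlowup_sigmaMap {σ : Type u} {P Q : σ → Pair.{u}} (f : ∀ i, P i ⟶ Q i)
    (hf : ∀ i, Pair.admBlowup (f i)) : Pair.admBlowup (sigmaMap f) := by
  have hpb : ∀ i, IsPullback (sigmaι P i).hom (f i).hom (sigmaMap f).hom (sigmaι Q i).hom := fun i ↦
    isPullback_sigma (fun i => (Q i).total) (fun i => (P i).total) (fun i => (f i).hom) i
  refine ⟨?_, ?_, ?_⟩
  · refine Groth.Agent.Picfga.IdealGlue.ext_of_openCover (sigmaOpenCover fun i => (P i).total) fun i => ?_
    change (sigmaPair P).mod.comap (sigmaι P i).hom = ((sigmaPair Q).mod.comap (sigmaMap f).hom).comap (sigmaι P i).hom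
    rw [← Scheme.IdealSheafData.comap_comp, (hpb i).w, Scheme.IdealSheafData.comap_comp, ← sigmaι_minimal Q i,
      ← sigmaι_minimal P i]
    exact (hf i).1
  · refine IsZariskiLocalAtTarget.of_openCover (P := @IsProper.{u})
      (sigmaOpenCover fun i => (Q i).total) fun i ↦ ?_
    have := (hf i).2.1
    have h := (hpb i).isoPullback_hom_snd
    have h2 : pullback.snd (sigmaMap f).hom (sigmaι Q i).hom = (hpb i).isoPullback.inv ≫ (f i).hom := by
      exact (Iso.eq_inv_comp _).2 h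
    change IsProper (pullback.snd (sigmaMap f).hom (sigmaι Q i).hom)
    rw [h2]
    infer_instance
  · refine isIso_restrict_of_cover (sigmaMap f).hom _ (sigmaOpenCover fun i => (Q i).total)
      (fun i => (P i).total) (fun i => (sigmaι P i).hom) (fun i => (f i).hom) hpb fun i => ?_
    have h3 : (sigmaι Q i).hom ⁻¹ᵁ interior (sigmaPair Q).mod = interior (Q i).mod := by
      rw [sigmaι_minimal Q i, interior_comap]
    change IsIso ((f i).hom ∣_ ((sigmaι Q i).hom ⁻¹ᵁ interior (sigmaPair Q).mod))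
    rw [h3]
    exact (hf i).2.2

theorem admBlowup_of_isIso {P Q : Pair.{u}} (f : P ⟶ Q) [IsIso f] : Pair.admBlowup f := by
  have : IsIso f.hom := inferInstanceAs (IsIso (Pair.forget.map f))
  refine isAdmBlowup_of_isIso f.hom (le_antisymm f.cond ?_)
  have h1 : (inv f).hom = inv f.hom := by
    rw [eq_comm]
    apply IsIso.inv_eq_of_hom_inv_id
    exact congrArg Pair.Hom.hom (IsIso.hom_inv_id f)
  have h2 : Q.mod ≤ P.mod.comap (inv f.hom) := h1 ▸ (inv f).cond
  have h3 := Scheme.IdealSheafData.comap_mono f.hom h2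
  dsimp only at h3
  rw [← Scheme.IdealSheafData.comap_comp, IsIso.hom_inv_id, Scheme.IdealSheafData.comap_id] at h3
  exact h3

instance respectsIso : (Pair.admBlowup.{u}).RespectsIso :=
  MorphismProperty.RespectsIso.mk _
    (fun e _ hf ↦ MorphismProperty.comp_mem _ _ _ (admBlowup_of_isIso e.hom) hf)
    (fun e _ hf ↦ MorphismProperty.comp_mem _ _ _ hf (admBlowup_of_isIso e.hom))

theorem stable (σ : Type u) : (Pair.admBlowup.{u}).IsStableUnderCoproductsOfShape σ := by
  refine MorphismProperty.IsStableUnderCoproductsOfShape.mk _ σ fun X₁ X₂ _ _ f hf ↦ ?_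
  let e₁ : ∐ X₁ ≅ sigmaPair X₁ := (coproductIsCoproduct X₁).coconePointUniqueUpToIso (pairCofan_isColimit X₁)
  let e₂ : ∐ X₂ ≅ sigmaPair X₂ := (coproductIsCoproduct X₂).coconePointUniqueUpToIso (pairCofan_isColimit X₂)
  have h : Limits.Sigma.map f = e₁.hom ≫ sigmaMap f ≫ e₂.inv := by
    refine Limits.Sigma.hom_ext _ _ fun i ↦ ?_
    have h1 : Sigma.ι X₁ i ≫ e₁.hom = sigmaι X₁ i :=
      (coproductIsCoproduct X₁).comp_coconePointUniqueUpToIso_hom (pairCofan_isColimit X₁) ⟨i⟩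
    have h2 : sigmaι X₂ i ≫ e₂.inv = Sigma.ι X₂ i :=
      (coproductIsCoproduct X₂).comp_coconePointUniqueUpToIso_inv (pairCofan_isColimit X₂) ⟨i⟩
    rw [Limits.Sigma.ι_map, reassoc_of% h1, reassoc_of% (sigmaι_map f i), h2]
  rw [h]
  exact MorphismProperty.comp_mem _ _ _ (admBlowup_of_isIso _)
    (MorphismProperty.comp_mem _ _ _ (isAdmBlowup_sigmaMap f hf) (admBlowup_of_isIso _))

end K972.CoprodAdm
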