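import Groth.Agent.S2078
import Groth.Agent.Smoothlim.ClosedFP
import Groth.Agent.Lim.K339.ClosedLim
import Groth.Agent.Sga5.H855.Geom
import Groth.Agent.ModPair.K971.Basic

/-!
# Finitely presented approximations of modulus pairs

Let `j : X ⟶ Z` be a closed immersion with ideal sheaf `K`, `Z` quasi-compact and quasi-separated.

* `exists_ft_le`: inclusions of ideals of finite type descend to `V(I)`, `I ≤ K` of finite type.
* `exists_ft_comap_eq`: an ideal sheaf of finite type on `X` is the restriction of one on `Z`.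
* `exists_locPrin_stage`: if it is locally principal on `X` then it is so on some `V(I)`.
* `exists_isIso_stage`: isomorphism over an open.
-/

set_option autoImplicit false
universe u

open CategoryTheory CategoryTheory.Limits AlgebraicGeometry TopologicalSpace

namespace K972.FPApprox

open ModPair K971.Basic Groth.Agent.Smoothlim.ClosedFP Groth.Agent.Divis

theorem exists_fg_le {R : Type*} [CommRing R] {F A K : Ideal R} (hF : F.FG) (h : F ≤ A ⊔ K) :
    ∃ J ≤ K, J.FG ∧ F ≤ A ⊔ J := by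
  classical
  obtain ⟨S, rfl⟩ := hF
  have : ∀ s : S, ∃ a ∈ A, ∃ k ∈ K, a + k = s.1 := fun s => Submodule.mem_sup.1 (h (Ideal.subset_span s.2))
  choose a ha k hk hak using this
  refine ⟨Ideal.span (Set.range k), ?_, ?_, ?_⟩
  · rw [Ideal.span_le]; rintro _ ⟨s, rfl⟩; exact hk s
  · exact Submodule.fg_span (Set.finite_range k)
  · refine Ideal.span_le.2 fun s hs => ?_
    have := hak ⟨s, hs⟩
    dsimp only at this
    rw [SetLike.mem_coe, ← this]
    exact Ideal.add_mem _ (Ideal.mem_sup_left (ha _)) (Ideal.mem_sup_right (Ideal.subset_span ⟨_, rfl⟩))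

theorem exists_cover {X : Scheme.{u}} [CompactSpace X] (p : X.affineOpens → Prop)
    (h : ∀ x : X, ∃ U : X.affineOpens, x ∈ U.1 ∧ p U) :
    ∃ (n : ℕ) (U : Fin n → X.affineOpens), (⨆ i, (U i).1) = ⊤ ∧ ∀ i, p (U i) := by
  choose U hU hp using h
  obtain ⟨t, ht⟩ := (isCompact_univ (X := X)).elim_finite_subcover (fun x => ((U x).1 : Set X))
    (fun x => (U x).1.2) (fun x _ => Set.mem_iUnion.2 ⟨x, hU x⟩)
  refine ⟨t.card, fun i => U (t.equivFin.symm i), ?_, fun i => hp _⟩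
  refine top_le_iff.1 fun x _ => ?_
  obtain ⟨y, hy⟩ := Set.mem_iUnion.1 (ht (Set.mem_univ x))
  obtain ⟨hyt, hxy⟩ := Set.mem_iUnion.1 hy
  refine Opens.mem_iSup.2 ⟨t.equivFin ⟨y, hyt⟩, ?_⟩
  simpa using hxy

variable {X Y Z : Scheme.{u}}

theorem exists_ft_le [QuasiSeparatedSpace Z] [CompactSpace Z] {F A K : Z.IdealSheafData}
    (hF : BlowUp.IsFiniteTypeIdeal F) (h : F ≤ A ⊔ K) :
    ∃ I ≤ K, BlowUp.IsFiniteTypeIdeal I ∧ F ≤ A ⊔ I := by
  obtain ⟨n, U, hU, -⟩ := exists_cover (X := Z) (fun _ => True) fun x => by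
    obtain ⟨V, hV, hx, -⟩ := exists_isAffineOpen_mem_and_subset (U := ⊤) (x := x) trivial
    exact ⟨⟨V, hV⟩, hx, trivial⟩
  have h1 : ∀ i, ∃ J ≤ K.ideal (U i), J.FG ∧ F.ideal (U i) ≤ A.ideal (U i) ⊔ J := fun i => by
    refine exists_fg_le (hF (U i)) ?_
    have := h (U i)
    rwa [Scheme.IdealSheafData.ideal_sup] at this
  choose J hJ1 hJ2 hJ3 using h1
  obtain ⟨I, hI, hI1, hI2⟩ := IdealFT.exists_ft_mem_family K U J hJ2 hJ1
  refine ⟨I, hI, hI1, Scheme.IdealSheafData.le_of_iSup_eq_top U hU fun i => ?_⟩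
  rw [Scheme.IdealSheafData.ideal_sup]
  exact (hJ3 i).trans (sup_le_sup_left (hI2 i) _)

theorem comap_ideal_closed (j : X ⟶ Z) [IsClosedImmersion j] (M : Z.IdealSheafData) (U : Z.affineOpens) :
    (M.comap j).ideal ⟨j ⁻¹ᵁ U.1, U.2.preimage j⟩ = (M.ideal U).map (j.app U.1).hom := by
  rw [IdealComap.ideal_comap M j U ⟨j ⁻¹ᵁ U.1, U.2.preimage j⟩ le_rfl, ← Scheme.Hom.app_eq_appLE]

theorem exists_ft_comap_eq [QuasiSeparatedSpace Z] [CompactSpace Z] (j : X ⟶ Z) [IsClosedImmersion j]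
    {IX : X.IdealSheafData} (hIX : BlowUp.IsFiniteTypeIdeal IX) :
    ∃ M : Z.IdealSheafData, BlowUp.IsFiniteTypeIdeal M ∧ M.comap j = IX := by
  let N : Z.IdealSheafData := IX.map j
  obtain ⟨n, U, hU, -⟩ := exists_cover (X := Z) (fun _ => True) fun x => by
    obtain ⟨V, hV, hx, -⟩ := exists_isAffineOpen_mem_and_subset (U := ⊤) (x := x) trivial
    exact ⟨⟨V, hV⟩, hx, trivial⟩
  have hmem : ∀ (V : Z.affineOpens), N.ideal V =
      (IX.ideal ⟨j ⁻¹ᵁ V.1, V.2.preimage j⟩).comap (j.app V.1).hom := fun V => by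
    ext s
    rw [Ideal.mem_comap]
    constructor
    · intro h
      rw [IdealFT.mem_ideal_map_iff] at h
      have := h ⟨j ⁻¹ᵁ V.1, V.2.preimage j⟩ le_rfl
      rwa [← Scheme.Hom.app_eq_appLE] at this
    · intro h
      refine IdealFT.mem_ideal_map_of_cover IX j V s fun x hx => ⟨⟨j ⁻¹ᵁ V.1, V.2.preimage j⟩, le_rfl, hx, ?_⟩
      rwa [← Scheme.Hom.app_eq_appLE]
  have hmap : ∀ (V : Z.affineOpens), (N.ideal V).map (j.app V.1).hom = IX.ideal ⟨j ⁻¹ᵁ V.1, V.2.preimage j⟩ :=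
    fun V => by rw [hmem, Ideal.map_comap_of_surjective _ (j.app_surjective V.1 V.2)]
  have h1 : ∀ i, ∃ J ≤ N.ideal (U i), J.FG ∧ J.map (j.app (U i).1).hom = (N.ideal (U i)).map (j.app (U i).1).hom :=
    fun i => IdealFT.exists_fg_map_eq _ _ (by rw [hmap]; exact hIX _)
  choose J hJ1 hJ2 hJ3 using h1
  obtain ⟨M, hM, hM1, hM2⟩ := IdealFT.exists_ft_mem_family N U J hJ2 hJ1
  refine ⟨M, hM1, ?_⟩
  refine Scheme.IdealSheafData.ext_of_iSup_eq_top (fun i => (⟨j ⁻¹ᵁ (U i).1, (U i).2.preimage j⟩ : X.affineOpens))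
    ?_ fun i => ?_
  · rw [← Scheme.Hom.preimage_iSup, hU, Scheme.Hom.preimage_top]
  · rw [comap_ideal_closed, ← hmap]
    exact le_antisymm (Ideal.map_mono (hM (U i))) ((hJ3 i).ge.trans (Ideal.map_mono (hM2 i)))

/-- Stage at which an ideal sheaf becomes locally principal. -/
theorem exists_locPrin_stage [QuasiSeparatedSpace Z] [CompactSpace Z] (j : X ⟶ Z) [IsClosedImmersion j]
    {M : Z.IdealSheafData} (hM : BlowUp.IsFiniteTypeIdeal M) (hX : LocPrin (M.comap j)) :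
    ∃ I ≤ j.ker, BlowUp.IsFiniteTypeIdeal I ∧ LocPrin (M.comap I.subschemeι) := by
  obtain ⟨n, U, hU, hUp⟩ := exists_cover (X := Z) (fun V => ∃ t : Γ(X, j ⁻¹ᵁ V.1),
      (M.comap j).ideal ⟨j ⁻¹ᵁ V.1, V.2.preimage j⟩ = Ideal.span {t}) fun x => by
    by_cases hx : x ∈ Set.range j
    · obtain ⟨y, rfl⟩ := hx
      obtain ⟨W, hyW, s, hs⟩ := hX y
      obtain ⟨O, hO, hO2⟩ := j.isClosedEmbedding.isInducing.isOpen_iff.1 W.1.2
      obtain ⟨V, hV, hx, hVO⟩ := exists_isAffineOpen_mem_and_subset (U := ⟨O, hO⟩) (x := j y)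
        (by change y ∈ j ⁻¹' O; rw [hO2]; exact hyW)
      have hVW : j ⁻¹ᵁ V ≤ W.1 := fun z hz => by
        have : z ∈ W.1.carrier := hO2 ▸ hVO hz
        exact this
      refine ⟨⟨V, hV⟩, hx, X.presheaf.map (homOfLE hVW).op s, ?_⟩
      rw [← (M.comap j).map_ideal (U := ⟨j ⁻¹ᵁ V, hV.preimage j⟩) (V := W) hVW, hs, Ideal.map_span,
        Set.image_singleton]
      rfl
    · obtain ⟨V, hV, hx, hVO⟩ := exists_isAffineOpen_mem_and_subset
        (U := ⟨(Set.range j)ᶜ, j.isClosedEmbedding.isClosed_range.isOpen_compl⟩) (x := x) hx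
      have hb : j ⁻¹ᵁ V = ⊥ := by
        refine le_bot_iff.1 fun z hz => ?_
        exact hVO hz ⟨z, rfl⟩
      have : Subsingleton Γ(X, j ⁻¹ᵁ V) := by
        rw [hb]; infer_instance
      exact ⟨⟨V, hV⟩, hx, 0, Subsingleton.elim _ _⟩
  choose t ht using hUp
  have h1 : ∀ i, ∃ s ∈ M.ideal (U i), (j.app (U i).1).hom s = t i := fun i => by
    have h2 : t i ∈ (M.ideal (U i)).map (j.app (U i).1).hom := by
      rw [← comap_ideal_closed, ht]
      exact Ideal.mem_span_singleton_self _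
    exact (Ideal.mem_map_iff_of_surjective _ (j.app_surjective _ (U i).2)).1 h2
  choose s hs hst using h1
  have h3 : ∀ i, ∃ J ≤ j.ker.ideal (U i), J.FG ∧ M.ideal (U i) ≤ Ideal.span {s i} ⊔ J := fun i => by
    refine exists_fg_le (hM (U i)) ?_
    rw [Scheme.Hom.ker_apply, ← Ideal.comap_map_of_surjective' _ (j.app_surjective _ (U i).2),
      ← Ideal.map_le_iff_le_comap, ← comap_ideal_closed, ht, Ideal.map_span, Set.image_singleton, hst]
  choose J hJ1 hJ2 hJ3 using h3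
  obtain ⟨I, hI, hI1, hI2⟩ := IdealFT.exists_ft_mem_family j.ker U J hJ2 hJ1
  refine ⟨I, hI, hI1, fun x => ?_⟩
  obtain ⟨i, hi⟩ := Opens.mem_iSup.1 (show I.subschemeι x ∈ ⨆ i, (U i).1 from hU ▸ trivial)
  refine ⟨⟨I.subschemeι ⁻¹ᵁ (U i).1, (U i).2.preimage _⟩, hi, (I.subschemeι.app (U i).1).hom (s i), ?_⟩
  rw [comap_ideal_closed]
  refine le_antisymm ?_ ?_
  · refine (Ideal.map_mono ((hJ3 i).trans (sup_le_sup_left (hI2 i) _))).trans ?_
    rw [Ideal.map_sup, Ideal.map_span, Set.image_singleton]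
    refine sup_le le_rfl ?_
    rw [← I.ker_subschemeι_app]
    exact (Ideal.map_le_iff_le_comap.2 fun x hx => by
      rw [Ideal.mem_comap, (RingHom.mem_ker).1 hx]; exact Ideal.zero_mem _)
  · rw [Ideal.span_le]
    rintro _ rfl
    exact Ideal.mem_map_of_mem _ (hs i)

theorem locPrin_subscheme_of_le {M I I' : Z.IdealSheafData} (h : I ≤ I') (hM : LocPrin (M.comap I.subschemeι)) :
    LocPrin (M.comap I'.subschemeι) := by
  rw [← Scheme.IdealSheafData.inclusion_subschemeι h, Scheme.IdealSheafData.comap_comp]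
  exact hM.comap _

/-- Two closed immersions with the same kernel. -/
theorem isIso_of_ker_le {A B W : Scheme.{u}} (a : A ⟶ W) (b : B ⟶ W) [IsClosedImmersion a] [IsClosedImmersion b]
    (c : A ⟶ B) (h : c ≫ b = a) (hk : a.ker ≤ b.ker) : IsIso c := by
  refine ⟨IsClosedImmersion.lift a b hk, ?_, ?_⟩
  · rw [← cancel_mono a, Category.assoc, IsClosedImmersion.lift_fac, h, Category.id_comp]
  · rw [← cancel_mono b, Category.assoc, h, IsClosedImmersion.lift_fac, Category.id_comp]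

/-- The kernel of a restriction to an open. -/
theorem ker_restrict (i : X ⟶ Z) [IsClosedImmersion i] (U : Z.Opens) : (i ∣_ U).ker = i.ker.comap U.ι := by
  have h1 := Scheme.IdealSheafData.ker_fst_of_isClosedImmersion i U.ι
  rw [← h1]
  have h2 : (isPullback_morphismRestrict i U).isoPullback.hom ≫ pullback.fst U.ι i = i ∣_ U := by simp
  rw [← h2, Scheme.Hom.ker_comp_of_isIso]

theorem comap_ι_le {I K : Z.IdealSheafData} (U : Z.Opens) (h : ∀ V : Z.affineOpens, V.1 ≤ U → K.ideal V ≤ I.ideal V) :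
    K.comap U.ι ≤ I.comap U.ι := by
  intro V
  have hV : IsAffineOpen (U.ι ''ᵁ V.1) := V.2.image_of_isOpenImmersion _
  have e : V.1 ≤ U.ι ⁻¹ᵁ (U.ι ''ᵁ V.1) := (Scheme.Hom.preimage_image_eq U.ι V.1).ge
  rw [IdealComap.ideal_comap K U.ι ⟨U.ι ''ᵁ V.1, hV⟩ V e, IdealComap.ideal_comap I U.ι ⟨U.ι ''ᵁ V.1, hV⟩ V e]
  refine Ideal.map_mono (h _ ?_)
  rintro _ ⟨x, -, rfl⟩
  exact x.2

theorem isIso_restrict_of_ker_le {A B W : Scheme.{u}} (a : A ⟶ B) (b : B ⟶ W) [IsClosedImmersion a]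
    [IsClosedImmersion b] (U : W.Opens) (h : (a ≫ b).ker.comap U.ι ≤ b.ker.comap U.ι) :
    IsIso (a ∣_ (b ⁻¹ᵁ U)) := by
  have h0 : IsClosedImmersion (a ≫ b) := inferInstance
  have h1 : IsClosedImmersion ((a ≫ b) ∣_ U) := IsZariskiLocalAtTarget.restrict h0 U
  have h2 : IsClosedImmersion (b ∣_ U) := IsZariskiLocalAtTarget.restrict ‹_› U
  have h3 : (a ∣_ (b ⁻¹ᵁ U)) ≫ (b ∣_ U) = (a ≫ b) ∣_ U := (morphismRestrict_comp a b U).symm
  have h4 : ((a ≫ b) ∣_ U).ker ≤ (b ∣_ U).ker := by rwa [ker_restrict, ker_restrict]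
  exact @isIso_of_ker_le _ _ _ ((a ≫ b) ∣_ U) (b ∣_ U) h1 h2 (a ∣_ (b ⁻¹ᵁ U)) h3 h4

theorem isIso_inclusion_restrict {I K : Z.IdealSheafData} (h : I ≤ K) (U : Z.Opens)
    (hU : ∀ V : Z.affineOpens, V.1 ≤ U → K.ideal V ≤ I.ideal V) :
    IsIso (Scheme.IdealSheafData.inclusion h ∣_ (I.subschemeι ⁻¹ᵁ U)) := by
  refine isIso_restrict_of_ker_le _ _ _ ?_
  rw [Scheme.IdealSheafData.inclusion_subschemeι, Scheme.IdealSheafData.ker_subschemeι,
    Scheme.IdealSheafData.ker_subschemeι]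
  exact comap_ι_le U hU

theorem le_sup_ker_of_comap_le (j : X ⟶ Z) [IsClosedImmersion j] {A B : Z.IdealSheafData}
    (h : A.comap j ≤ B.comap j) : A ≤ B ⊔ j.ker := by
  intro V
  have h1 := h ⟨j ⁻¹ᵁ V.1, V.2.preimage j⟩
  rw [comap_ideal_closed, comap_ideal_closed, Ideal.map_le_iff_le_comap,
    Ideal.comap_map_of_surjective' _ (j.app_surjective _ V.2)] at h1
  rw [Scheme.IdealSheafData.ideal_sup]
  change A.ideal V ≤ B.ideal V ⊔ j.ker.ideal V
  rw [Scheme.Hom.ker_apply]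
  exact h1

theorem comap_subschemeι_self (I : Z.IdealSheafData) : I.comap I.subschemeι = ⊥ := by
  refine IdealComap.ext_of_forall_mem fun x => ?_
  obtain ⟨V, hV, hx, -⟩ := exists_isAffineOpen_mem_and_subset (U := ⊤) (x := I.subschemeι x) trivial
  refine ⟨⟨I.subschemeι ⁻¹ᵁ V, hV.preimage _⟩, hx, ?_⟩
  rw [comap_ideal_closed I.subschemeι I ⟨V, hV⟩]
  rw [← I.ker_subschemeι_app]
  refine le_bot_iff.1 (Ideal.map_le_iff_le_comap.2 fun x hx => ?_)
  rw [Ideal.mem_comap, (RingHom.mem_ker).1 hx]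
  exact Ideal.zero_mem _

theorem comap_le_of_le_sup {A B I I' : Z.IdealSheafData} (h : A ≤ B ⊔ I) (h' : I ≤ I') :
    A.comap I'.subschemeι ≤ B.comap I'.subschemeι := by
  refine (Scheme.IdealSheafData.comap_mono _ (h.trans (sup_le_sup_left h' _))).trans ?_
  dsimp only
  rw [Scheme.IdealSheafData.comap_sup, comap_subschemeι_self]
  exact sup_le le_rfl bot_le

/-- Stage for an isomorphism over an open. -/
theorem exists_iso_stage [QuasiSeparatedSpace Z] [CompactSpace Z] (j : X ⟶ Z) [IsClosedImmersion j]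
    (f' : Z ⟶ Y) [LocallyOfFinitePresentation f'] (U : Y.Opens) [QuasiCompact U.ι] [QuasiCompact f'] [CompactSpace Y]
    (h : IsIso ((j ≫ f') ∣_ U)) :
    ∃ I ≤ j.ker, BlowUp.IsFiniteTypeIdeal I ∧ ∀ V : Z.affineOpens, V.1 ≤ f' ⁻¹ᵁ U → I.ideal V = j.ker.ideal V := by
  have hc : IsCompact ((f' ⁻¹ᵁ U : Z.Opens) : Set Z) := by
    have h1 : IsCompact (U : Set Y) := by
      have : CompactSpace U := QuasiCompact.compactSpace_of_compactSpace U.ι
      exact isCompact_iff_compactSpace.2 this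
    exact QuasiCompact.isCompact_preimage _ U.2 h1
  have h3 : IsClosedImmersion (j ∣_ (f' ⁻¹ᵁ U)) := IsZariskiLocalAtTarget.restrict ‹_› _
  have h4 : (j ∣_ (f' ⁻¹ᵁ U)) ≫ (f' ∣_ U) = (j ≫ f') ∣_ U := (morphismRestrict_comp j f' U).symm
  have h5 : LocallyOfFiniteType (f' ∣_ U) := inferInstance
  have h10 : LocallyOfFinitePresentation ((j ≫ f') ∣_ U) := inferInstance
  have h6 : LocallyOfFinitePresentation ((j ∣_ (f' ⁻¹ᵁ U)) ≫ (f' ∣_ U)) := by
    rw [h4]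
    exact h10
  have h7 := Groth.Agent.Ega43.FPOfComp.locallyOfFinitePresentation_of_comp (j ∣_ (f' ⁻¹ᵁ U)) (f' ∣_ U)
  have h8 : BlowUp.IsFiniteTypeIdeal (j ∣_ (f' ⁻¹ᵁ U)).ker :=
    Groth.Agent.Sga5.H855.Geom.isFiniteTypeIdeal_ker _
  rw [ker_restrict] at h8
  refine IdealFT.exists_ft_eqOn j.ker (f' ⁻¹ᵁ U) hc fun V hV => ?_
  have hV' : IsAffineOpen ((f' ⁻¹ᵁ U).ι ⁻¹ᵁ V.1) :=
    V.2.preimage_of_isOpenImmersion (f' ⁻¹ᵁ U).ι (by rw [Scheme.Opens.opensRange_ι]; exact hV)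
  have h9 := h8 ⟨_, hV'⟩
  rw [IdealComap.ideal_comap j.ker (f' ⁻¹ᵁ U).ι V ⟨_, hV'⟩ le_rfl, ← Scheme.Hom.app_eq_appLE] at h9
  obtain ⟨J, -, hJ2, hJ3⟩ := IdealFT.exists_fg_map_eq _ _ h9
  have : IsIso ((f' ⁻¹ᵁ U).ι.app V.1) := by
    refine Scheme.Hom.isIso_app (f' ⁻¹ᵁ U).ι V.1 (by rw [Scheme.Opens.opensRange_ι]; exact hV)
  rwa [← IdealComap.map_injective_of_isIso _ hJ3]

theorem isIso_restrict_of_stage {j : X ⟶ Z} [IsClosedImmersion j] {f' : Z ⟶ Y} {U : Y.Opens}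
    (h : IsIso ((j ≫ f') ∣_ U)) {I I' : Z.IdealSheafData}
    (hI : ∀ V : Z.affineOpens, V.1 ≤ f' ⁻¹ᵁ U → I.ideal V = j.ker.ideal V) (hII' : I ≤ I') (hI' : I' ≤ j.ker) :
    IsIso ((I'.subschemeι ≫ f') ∣_ U) := by
  have h1 : IsIso (Scheme.IdealSheafData.inclusion hI' ∣_ (I'.subschemeι ⁻¹ᵁ (f' ⁻¹ᵁ U))) :=
    isIso_inclusion_restrict hI' _ fun V hV => (hI V hV).ge.trans (hII' V)
  have h2 : j = j.toImage ≫ Scheme.IdealSheafData.inclusion hI' ≫ I'.subschemeι := by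
    rw [Scheme.IdealSheafData.inclusion_subschemeι]
    exact (Scheme.Hom.toImage_imageι j).symm
  have h3 : IsIso j.toImage := inferInstance
  let a := Scheme.IdealSheafData.inclusion hI'
  let b := I'.subschemeι ≫ f'
  have h4 : j ≫ f' = j.toImage ≫ (a ≫ b) := by
    change j ≫ f' = j.toImage ≫ (Scheme.IdealSheafData.inclusion hI' ≫ (I'.subschemeι ≫ f'))
    conv_lhs => rw [h2]
    simp only [Category.assoc]
  rw [h4, morphismRestrict_comp] at h
  have h5 : IsIso (j.toImage ∣_ ((a ≫ b) ⁻¹ᵁ U)) := inferInstance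
  have h6 : IsIso ((a ≫ b) ∣_ U) := @IsIso.of_isIso_comp_left _ _ _ _ _ _ _ h5 h
  rw [morphismRestrict_comp] at h6
  exact @IsIso.of_isIso_comp_left _ _ _ _ _ _ _ h1 h6

end K972.FPApprox
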