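import Groth.Agent.ModPair.K971.LimMod
import Groth.Agent.ModPair.K972.Closure
import Groth.Agent.S0591
import Groth.Agent.S9189
import Groth.Agent.Sga5.H855.Geom
import Groth.Agent.Smoothlim.ClosedFP
import Groth.Agent.Divis.BlowTwist

/-!
# Ideal sheaves on cofiltered limits of schemes

`D` a cofiltered diagram of quasi-compact quasi-separated schemes with affine transition maps, limit cone `c`.

* `exists_ideal_stage`: an ideal sheaf of finite type on the limit is pulled back from a stage.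
* `exists_locPrin_stage`: if `M` on a stage (of finite type) is locally principal on the limit then so it is on a later
  stage.
-/

set_option autoImplicit false
universe u

open CategoryTheory CategoryTheory.Limits AlgebraicGeometry TopologicalSpace

namespace K972.LimStage

open ModPair K971.Basic K971.LimBasic K971.LimMod Groth.Agent.Divis.IdealComap

/-- The kernel of the base change of a closed immersion is the inverse image of the kernel. -/
lemma ker_of_isPullback {P X Y Z : Scheme.{u}} {p : P ⟶ X} {q : P ⟶ Z} {f : X ⟶ Y} {i : Z ⟶ Y}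
    (sq : IsPullback p q f i) [IsClosedImmersion i] : p.ker = i.ker.comap f := by
  rw [← Scheme.IdealSheafData.ker_fst_of_isClosedImmersion, ← sq.isoPullback_hom_fst,
    Scheme.Hom.ker_comp_of_isIso]

variable {I : Type u} [SmallCategory I] {D : I ⥤ Scheme.{u}} {c : Cone D}
variable [IsCofiltered I] [∀ {i j} (f : i ⟶ j), IsAffineHom (D.map f)] (hc : IsLimit c)

include hc

/-- inequalities of ideals of a ring of sections over an affine open of a stage -/
theorem exists_map_le {i : I} (U : (D.obj i).Opens) (hU : IsAffineOpen U) (A B : Ideal Γ(D.obj i, U)) (hA : A.FG)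
    (h : A.map ((c.π.app i).appLE U (c.π.app i ⁻¹ᵁ U) le_rfl).hom ≤
      B.map ((c.π.app i).appLE U (c.π.app i ⁻¹ᵁ U) le_rfl).hom) :
    ∃ (j : I) (f : j ⟶ i), ∀ (k : I) (g : k ⟶ j), A.map ((D.map (g ≫ f)).appLE U (D.map (g ≫ f) ⁻¹ᵁ U) le_rfl).hom ≤
      B.map ((D.map (g ≫ f)).appLE U (D.map (g ≫ f) ⁻¹ᵁ U) le_rfl).hom := by
  classical
  obtain ⟨G, rfl⟩ := hA
  have h1 : ∀ a : G, ∃ (j : I) (f : j ⟶ i), (D.map f).appLE U (D.map f ⁻¹ᵁ U) le_rfl a.1 ∈
      B.map ((D.map f).appLE U (D.map f ⁻¹ᵁ U) le_rfl).hom := by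
    intro a
    refine exists_mem_map_of_mem hc U hU B _ (h (Ideal.mem_map_of_mem _ (Ideal.subset_span a.2)))
  choose j f hf using h1
  obtain ⟨k, fk, g, hg⟩ := IsCofiltered.wideCospan f
  refine ⟨k, fk, fun l m => ?_⟩
  rw [Ideal.map_le_iff_le_comap, Ideal.span_le]
  intro a ha
  have h3 := hf ⟨a, ha⟩
  have hfac : m ≫ fk = (m ≫ g ⟨a, ha⟩) ≫ f ⟨a, ha⟩ := by rw [Category.assoc, hg]
  rw [hfac]
  set q := m ≫ g ⟨a, ha⟩
  set f0 := f ⟨a, ha⟩
  have h : D.map (q ≫ f0) ⁻¹ᵁ U ≤ D.map q ⁻¹ᵁ D.map f0 ⁻¹ᵁ U := by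
    rw [D.map_comp, Scheme.Hom.comp_preimage]
  have h4 := Ideal.mem_map_of_mem ((D.map q).appLE (D.map f0 ⁻¹ᵁ U) (D.map (q ≫ f0) ⁻¹ᵁ U) h).hom h3
  rw [Ideal.map_map, ← CommRingCat.hom_comp, Scheme.Hom.appLE_comp_appLE] at h4
  rw [SetLike.mem_coe, Ideal.mem_comap]
  convert h4 using 4
  · exact D.map_comp q f0
  · have h5 := appLE_appLE (D.map q) (D.map f0) le_rfl h a
    exact (h5.trans (appLE_congr_hom (D.map_comp q f0).symm _ a)).symm

/-- An ideal sheaf of finite type on the limit is pulled back from a stage. -/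
theorem exists_ideal_stage [∀ i, CompactSpace (D.obj i)] [∀ i, QuasiSeparatedSpace (D.obj i)]
    (L : c.pt.IdealSheafData) (hL : BlowUp.IsFiniteTypeIdeal L) :
    ∃ (i : I) (M : (D.obj i).IdealSheafData), BlowUp.IsFiniteTypeIdeal M ∧ M.comap (c.π.app i) = L := by
  have h1 := Groth.Agent.Smoothlim.ClosedFP.locallyOfFinitePresentation_subschemeι L hL
  obtain ⟨i, Z, f, g, h2, h3, h4, sq⟩ := Groth.Agent.S0591.result D c hc L.subscheme L.subschemeι
  have hZ : CompactSpace Z := QuasiCompact.compactSpace_of_compactSpace f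
  have hZ' : QuasiSeparatedSpace Z := quasiSeparatedSpace_of_quasiSeparated f
  obtain ⟨j, φ, Zj, Yj, fj, gj, pY, pX, sq1, sq2, hcl⟩ := Groth.Agent.S9189.result D c hc i f (𝟙 _) L.subschemeι
    (𝟙 _) (c.π.app i) g (IsPullback.of_vert_isIso ⟨by simp⟩) sq
  have hiso : IsIso gj := sq1.flip.isIso_fst_of_isIso
  have sq3 : IsPullback pX (fj ≫ gj) f (D.map φ) := by
    have := sq2.paste_vert sq1
    rwa [Category.comp_id] at this
  have hcl2 : IsClosedImmersion (fj ≫ gj) := inferInstance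
  have hfg : LocallyOfFinitePresentation (fj ≫ gj) :=
    MorphismProperty.of_isPullback (P := @LocallyOfFinitePresentation) sq3 h2
  refine ⟨j, (fj ≫ gj).ker, Groth.Agent.Sga5.H855.Geom.isFiniteTypeIdeal_ker (fj ≫ gj), ?_⟩
  let g' : L.subscheme ⟶ Zj := sq3.lift g (L.subschemeι ≫ c.π.app j) (by
    rw [Category.assoc, c.w, sq.w])
  have sq5 : IsPullback g' L.subschemeι (fj ≫ gj) (c.π.app j) := by
    refine IsPullback.of_right ?_ (sq3.lift_snd _ _ _) sq3
    rw [sq3.lift_fst]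
    convert sq using 1
    exact c.w φ
  rw [← ker_of_isPullback sq5.flip, Scheme.IdealSheafData.ker_subschemeι]

omit hc [IsCofiltered I] [∀ {i j} (f : i ⟶ j), IsAffineHom (D.map f)] in
/-- the locus where an ideal sheaf is locally principal -/
def prinLocus {X : Scheme.{u}} (M : X.IdealSheafData) : X.Opens where
  carrier := {x | ∃ U : X.affineOpens, x ∈ U.1 ∧ ∃ f : Γ(X, U.1), M.ideal U = Ideal.span {f}}
  is_open' := by
    rw [isOpen_iff_forall_mem_open]
    rintro x ⟨U, hx, f, hf⟩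
    exact ⟨U.1, fun y hy => ⟨U, hy, f, hf⟩, U.1.2, hx⟩

omit hc [IsCofiltered I] [∀ {i j} (f : i ⟶ j), IsAffineHom (D.map f)] in
theorem prinLocus_eq_top {X : Scheme.{u}} {M : X.IdealSheafData} : prinLocus M = ⊤ ↔ LocPrin M :=
  ⟨fun h x => (h.ge (Opens.mem_top x) : x ∈ prinLocus M), fun h => top_le_iff.1 fun x _ => h x⟩

omit hc [IsCofiltered I] [∀ {i j} (f : i ⟶ j), IsAffineHom (D.map f)] in
theorem preimage_prinLocus_le {X Y : Scheme.{u}} (M : Y.IdealSheafData) (f : X ⟶ Y) :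
    f ⁻¹ᵁ prinLocus M ≤ prinLocus (M.comap f) := by
  rintro x ⟨U, hxU, a, ha⟩
  obtain ⟨U', V, hxU', hxV, -, hU'U, e⟩ := exists_affine_le f x ⊤ trivial U.1 hxU
  have e' : V.1 ≤ f ⁻¹ᵁ U.1 := fun _ h ↦ hU'U (e h)
  refine ⟨V, hxV, (f.appLE U V e').hom a, ?_⟩
  rw [ideal_comap _ f U V e', ha, Ideal.map_span, Set.image_singleton]

/-- locally principal on the limit implies locally principal on a stage -/
theorem exists_locPrin_stage [∀ i, CompactSpace (D.obj i)] {i : I} (M : (D.obj i).IdealSheafData)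
    (hM : BlowUp.IsFiniteTypeIdeal M) (hX : LocPrin (M.comap (c.π.app i))) :
    ∃ (j : I) (f : j ⟶ i), LocPrin (M.comap (D.map f)) := by
  have haff : ∀ i, IsAffineHom (c.π.app i) := isAffineHom_π_app D c hc
  have hcomp : CompactSpace c.pt := QuasiCompact.compactSpace_of_compactSpace (c.π.app i)
  -- pointwise
  have key : ∀ x : c.pt, ∃ j : Over i, x ∈ c.π.app j.left ⁻¹ᵁ prinLocus (M.comap (D.map j.hom)) := by
    intro x
    obtain ⟨W, hxW, g, hg⟩ := hX x
    obtain ⟨_, ⟨j, V, hV, rfl⟩, hxV, hVW⟩ := Opens.isBasis_iff_nbhd.1 (isBasis_preimage_isAffineOpen D c hc) hxW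
    obtain ⟨k, a, b, -⟩ := IsCofilteredOrEmpty.cone_objs i j
    let V' : (D.obj k).affineOpens := ⟨D.map b ⁻¹ᵁ V, hV.preimage (D.map b)⟩
    have hV' : c.π.app k ⁻¹ᵁ V'.1 ≤ W.1 := by
      rw [show c.π.app k ⁻¹ᵁ V'.1 = c.π.app j ⁻¹ᵁ V from preimage_preimage D c b V]; exact hVW
    have hxV' : x ∈ c.π.app k ⁻¹ᵁ V'.1 := by
      rw [show c.π.app k ⁻¹ᵁ V'.1 = c.π.app j ⁻¹ᵁ V from preimage_preimage D c b V]; exact hxV
    obtain ⟨l, f, t, ht⟩ := exists_app_eq_affine hc V'.1 V'.2 ((c.pt.presheaf.map (homOfLE hV').op).hom g)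
    let V'' : (D.obj l).affineOpens := ⟨D.map f ⁻¹ᵁ V'.1, V'.2.preimage (D.map f)⟩
    let VX : c.pt.affineOpens := ⟨c.π.app l ⁻¹ᵁ V''.1, V''.2.preimage (c.π.app l)⟩
    have hVX : VX.1 ≤ c.π.app k ⁻¹ᵁ V'.1 := (preimage_preimage D c f V'.1).le
    have ht' : (c.π.app l).appLE V''.1 VX.1 le_rfl t = (c.pt.presheaf.map (homOfLE (hVX.trans hV')).op).hom g := by
      have h1 := congrArg (c.pt.presheaf.map (homOfLE hVX).op) ht
      have e1 : (c.π.app l).appLE V''.1 VX.1 le_rfl =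
        (c.π.app l).appLE V''.1 (c.π.app k ⁻¹ᵁ V'.1) (le_preimage D c f V'.1) ≫ c.pt.presheaf.map (homOfLE hVX).op :=
        (Scheme.Hom.appLE_map _ _ _).symm
      rw [e1, ConcreteCategory.comp_apply]
      refine h1.trans ?_
      change (c.pt.presheaf.map (homOfLE hVX).op) ((c.pt.presheaf.map (homOfLE hV').op) g) = _
      rw [← ConcreteCategory.comp_apply, ← Functor.map_comp]
      rfl
    have hVXi : (M.comap (c.π.app i)).ideal VX =
        Ideal.span {(c.π.app l).appLE V''.1 VX.1 le_rfl t} := by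
      rw [ht', ← (M.comap (c.π.app i)).map_ideal (U := VX) (V := W) (hVX.trans hV'), hg, Ideal.map_span,
        Set.image_singleton]
      rfl
    let N := M.comap (D.map (f ≫ a))
    have hN : N.comap (c.π.app l) = M.comap (c.π.app i) := by
      rw [← Scheme.IdealSheafData.comap_comp, c.w]
    have hNft : (N.ideal V'').FG := by
      exact Groth.Agent.Divis.BlowTwist.isFiniteTypeIdeal_comap hM _ V''
    have hmap : (N.ideal V'').map ((c.π.app l).appLE V''.1 VX.1 le_rfl).hom =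
        (Ideal.span {t}).map ((c.π.app l).appLE V''.1 VX.1 le_rfl).hom := by
      rw [← ideal_comap N (c.π.app l) V'' VX le_rfl, hN, hVXi, Ideal.map_span, Set.image_singleton]
    obtain ⟨j1, f1, h1⟩ := exists_map_le hc V''.1 V''.2 (N.ideal V'') (Ideal.span {t}) hNft hmap.le
    obtain ⟨j2, f2, h2⟩ := exists_map_le hc V''.1 V''.2 (Ideal.span {t}) (N.ideal V'')
      (Submodule.fg_span_singleton t) hmap.ge
    obtain ⟨m, g1, g2, hg12⟩ := IsCofiltered.cospan f1 f2
    have h3 := le_antisymm (h1 m g1) (hg12 ▸ h2 m g2)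
    refine ⟨Over.mk ((g1 ≫ f1) ≫ f ≫ a), ?_⟩
    refine ⟨⟨D.map (g1 ≫ f1) ⁻¹ᵁ V''.1, V''.2.preimage _⟩, ?_, 
      (D.map (g1 ≫ f1)).appLE V''.1 (D.map (g1 ≫ f1) ⁻¹ᵁ V''.1) le_rfl t, ?_⟩
    · change x ∈ c.π.app m ⁻¹ᵁ D.map (g1 ≫ f1) ⁻¹ᵁ D.map f ⁻¹ᵁ V'.1
      rw [preimage_preimage, preimage_preimage]
      exact hxV'
    · have e2 : M.comap (D.map ((g1 ≫ f1) ≫ f ≫ a)) = N.comap (D.map (g1 ≫ f1)) := by
        rw [D.map_comp, Scheme.IdealSheafData.comap_comp]
      change (M.comap (D.map ((g1 ≫ f1) ≫ f ≫ a))).ideal _ = _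
      rw [e2, ideal_comap _ (D.map (g1 ≫ f1)) V'' _ le_rfl, h3, Ideal.map_span, Set.image_singleton]
      rfl
  -- compactness
  have : Nonempty (Over i) := ⟨Over.mk (𝟙 i)⟩
  obtain ⟨j, hj⟩ : ∃ j : Over i, (Set.univ : Set c.pt) ⊆
      (c.π.app j.left ⁻¹ᵁ prinLocus (M.comap (D.map j.hom)) : c.pt.Opens) := by
    refine (isCompact_univ (X := c.pt)).elim_directed_cover (fun j : Over i =>
      ((c.π.app j.left ⁻¹ᵁ prinLocus (M.comap (D.map j.hom)) : c.pt.Opens) : Set c.pt)) (fun j => Opens.isOpen _)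
      (fun x _ => Set.mem_iUnion.2 (key x)) ?_
    intro j1 j2
    obtain ⟨k, g1, g2, hg12⟩ := IsCofiltered.cospan j1.hom j2.hom
    have aux : ∀ (j : Over i) (g : k ⟶ j.left) (e : k ⟶ i) (he : g ≫ j.hom = e),
        (c.π.app j.left ⁻¹ᵁ prinLocus (M.comap (D.map j.hom)) : c.pt.Opens) ≤
          c.π.app k ⁻¹ᵁ prinLocus (M.comap (D.map e)) := by
      intro j g e he
      subst he
      rw [← c.w g, Scheme.Hom.comp_preimage, D.map_comp, Scheme.IdealSheafData.comap_comp]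
      exact Scheme.Hom.preimage_mono _ (preimage_prinLocus_le _ _)
    exact ⟨Over.mk (g1 ≫ j1.hom), aux j1 g1 _ rfl, aux j2 g2 _ hg12.symm⟩
  obtain ⟨k, g, hg⟩ := exists_map_eq_top D c hc (prinLocus (M.comap (D.map j.hom))) (top_le_iff.1 hj)
  refine ⟨k, g ≫ j.hom, prinLocus_eq_top.1 (top_le_iff.1 ?_)⟩
  rw [← hg, D.map_comp, Scheme.IdealSheafData.comap_comp]
  exact preimage_prinLocus_le _ _

end K972.LimStage
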